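import Mathlib.RingTheory.MvPolynomial.Homogeneous
import Mathlib.RingTheory.Polynomial.Basic
import Mathlib.RingTheory.Finiteness.Basic
import Mathlib.LinearAlgebra.FiniteDimensional.Lemmas

/-!
# Rings of invariants of polynomial rings: a Veronese subring generated in degree one

* `exists_veronese`: if `I` is a subalgebra of a polynomial ring with a homogeneous Reynolds operator, then some Veronese
  subring of `I` is generated by its elements of lowest degree.
-/

set_option autoImplicit false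

universe u v

open MvPolynomial

namespace K496.KrGen

noncomputable section

variable {k : Type u} [Field k] {σ : Type v}

/-- graded pieces of a subalgebra -/
def pc (I : Subalgebra k (MvPolynomial σ k)) (n : ℕ) : Submodule k (MvPolynomial σ k) :=
  Subalgebra.toSubmodule I ⊓ homogeneousSubmodule σ k n

variable {I : Subalgebra k (MvPolynomial σ k)}

lemma mem_pc {n : ℕ} {p : MvPolynomial σ k} : p ∈ pc I n ↔ p ∈ I ∧ p.IsHomogeneous n := Iff.rfl

lemma mul_mem_pc {m n : ℕ} {p q : MvPolynomial σ k} (hp : p ∈ pc I m) (hq : q ∈ pc I n) : p * q ∈ pc I (m + n) :=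
  ⟨I.mul_mem hp.1 hq.1, hp.2.mul hq.2⟩

lemma mul_pc (m n : ℕ) : pc I m * pc I n ≤ pc I (m + n) := by
  rw [Submodule.mul_le]
  intro p hp q hq
  exact mul_mem_pc hp hq

lemma pow_pc (m j : ℕ) : pc I m ^ j ≤ pc I (j * m) := by
  induction j with
  | zero =>
    rw [pow_zero, zero_mul, Submodule.one_le]
    exact ⟨I.one_mem, isHomogeneous_one _ _⟩
  | succ j ih =>
    rw [pow_succ, add_mul, one_mul]
    exact (mul_le_mul' ih le_rfl).trans (mul_pc _ _)

lemma mem_pc_zero {p : MvPolynomial σ k} (hp : p ∈ pc I 0) : ∃ c, p = C c := by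
  have h1 := (totalDegree_zero_iff_isHomogeneous σ (p := p)).2 hp.2
  exact ⟨_, totalDegree_eq_zero_iff_eq_C.1 h1⟩

section Gens

variable [Finite σ] (ρ : MvPolynomial σ k →ₗ[k] MvPolynomial σ k)

attribute [local instance] MvPolynomial.gradedAlgebra

theorem exists_gens (h_inv : ∀ p, ρ p ∈ I) (h_eq : ∀ p ∈ I, ρ p = p) (h_mul : ∀ p ∈ I, ∀ q, ρ (p * q) = p * ρ q)
    (h_hom : ∀ d p, p.IsHomogeneous d → (ρ p).IsHomogeneous d) :
    ∃ s : Finset (MvPolynomial σ k), (∀ F ∈ s, 0 < F.totalDegree ∧ F ∈ pc I F.totalDegree) ∧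
      ∀ n, 0 < n → ∀ p ∈ pc I n, ∃ c : MvPolynomial σ k → MvPolynomial σ k, p = ∑ F ∈ s, F * c F ∧
        ∀ F ∈ s, c F ≠ 0 → F.totalDegree ≤ n ∧ c F ∈ pc I (n - F.totalDegree) := by
  classical
  have hnoe : IsNoetherianRing (MvPolynomial σ k) := inferInstance
  let T : Set (MvPolynomial σ k) := {F | F ≠ 0 ∧ F ∈ I ∧ ∃ m, 0 < m ∧ F.IsHomogeneous m}
  have hT : ∀ F ∈ T, 0 < F.totalDegree ∧ F ∈ pc I F.totalDegree := by
    rintro F ⟨h0, hI, m, hm, hF⟩
    have h1 := hF.totalDegree h0
    rw [h1]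
    exact ⟨hm, hI, hF⟩
  obtain ⟨s, hsT, hs⟩ := (Submodule.fg_span_iff_fg_span_finset_subset T).1
    (IsNoetherian.noetherian (Submodule.span (MvPolynomial σ k) T))
  refine ⟨s, fun F hF => hT F (hsT hF), fun n hn p hp => ?_⟩
  by_cases hp0 : p = 0
  · refine ⟨0, by simp [hp0], fun F _ h => absurd rfl h⟩
  have h1 : p ∈ Submodule.span (MvPolynomial σ k) (s : Set (MvPolynomial σ k)) := by
    rw [← hs]
    exact Submodule.subset_span ⟨hp0, hp.1, n, hn, hp.2⟩
  obtain ⟨f, -, hf⟩ := Submodule.mem_span_finset.1 h1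
  let c : MvPolynomial σ k → MvPolynomial σ k := fun F =>
    if F.totalDegree ≤ n then ρ (homogeneousComponent (n - F.totalDegree) (f F)) else 0
  have h2 : ∀ F ∈ s, homogeneousComponent n (f F * F) =
      F * (if F.totalDegree ≤ n then homogeneousComponent (n - F.totalDegree) (f F) else 0) := by
    intro F hF
    have hF' := (hT F (hsT hF)).2.2
    rw [mul_comm]
    have h3 : homogeneousComponent n (F * f F) =
      ((DirectSum.decompose (homogeneousSubmodule σ k) (F * f F) n : homogeneousSubmodule σ k n) :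
        MvPolynomial σ k) := (decomposition.decompose'_apply _ _).symm
    have h4 : homogeneousComponent (n - F.totalDegree) (f F) =
      ((DirectSum.decompose (homogeneousSubmodule σ k) (f F) (n - F.totalDegree) :
        homogeneousSubmodule σ k (n - F.totalDegree)) : MvPolynomial σ k) :=
        (decomposition.decompose'_apply _ _).symm
    rw [h3, h4]
    by_cases hd : F.totalDegree ≤ n
    · rw [if_pos hd]
      exact DirectSum.coe_decompose_mul_of_left_mem_of_le _ hF' hd
    · rw [if_neg hd, mul_zero]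
      exact DirectSum.coe_decompose_mul_of_left_mem_of_not_le _ hF' hd
  have h3 : p = ∑ F ∈ s, F * (if F.totalDegree ≤ n then homogeneousComponent (n - F.totalDegree) (f F) else 0) := by
    have h4 := congrArg (homogeneousComponent n) hf
    rw [map_sum, homogeneousComponent_of_mem hp.2, if_pos rfl] at h4
    rw [← h4]
    refine Finset.sum_congr rfl fun F hF => ?_
    rw [smul_eq_mul, h2 F hF]
  refine ⟨c, ?_, fun F hF hc => ?_⟩
  · have h4 := congrArg ρ h3
    rw [h_eq p hp.1, map_sum] at h4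
    rw [h4]
    refine Finset.sum_congr rfl fun F hF => ?_
    rw [h_mul F (hT F (hsT hF)).2.1]
    simp only [c]
    split_ifs
    · rfl
    · rw [map_zero]
  · simp only [c] at hc ⊢
    split_ifs at hc ⊢ with hd
    · exact ⟨hd, h_inv _, h_hom _ _ (homogeneousComponent_isHomogeneous _ _)⟩
    · exact absurd rfl hc

end Gens

section Span

variable {s : Finset (MvPolynomial σ k)}

/-- The span of the monomials of given degree in the generators. -/
def ms (s : Finset (MvPolynomial σ k)) (n : ℕ) : Submodule k (MvPolynomial σ k) :=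
  Submodule.span k {x | ∃ a : MvPolynomial σ k → ℕ, ∑ F ∈ s, a F * F.totalDegree = n ∧ x = ∏ F ∈ s, F ^ a F}

lemma mul_mem_ms {F : MvPolynomial σ k} (hF : F ∈ s) {n : ℕ} {x : MvPolynomial σ k} (hx : x ∈ ms s n) :
    F * x ∈ ms s (F.totalDegree + n) := by
  classical
  induction hx using Submodule.span_induction with
  | mem x hx =>
    obtain ⟨a, ha, rfl⟩ := hx
    refine Submodule.subset_span ⟨Function.update a F (a F + 1), ?_, ?_⟩
    · rw [← Finset.add_sum_erase s _ hF, Function.update_self, add_mul, one_mul, ← ha, ← Finset.add_sum_erase s _ hF,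
        add_comm (a F * _), add_assoc]
      congr 2
      refine Finset.sum_congr rfl fun G hG => ?_
      rw [Function.update_of_ne (Finset.ne_of_mem_erase hG)]
    · rw [← Finset.mul_prod_erase s _ hF, ← Finset.mul_prod_erase s _ hF, Function.update_self, pow_succ', mul_assoc]
      congr 2
      refine Finset.prod_congr rfl fun G hG => ?_
      rw [Function.update_of_ne (Finset.ne_of_mem_erase hG)]
  | zero => rw [mul_zero]; exact zero_mem _
  | add x y _ _ hx hy => rw [mul_add]; exact add_mem hx hy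
  | smul c x _ hx => rw [mul_smul_comm]; exact Submodule.smul_mem _ _ hx

lemma pc_le_ms (hs : ∀ F ∈ s, 0 < F.totalDegree ∧ F ∈ pc I F.totalDegree)
    (hgen : ∀ n, 0 < n → ∀ p ∈ pc I n, ∃ c : MvPolynomial σ k → MvPolynomial σ k, p = ∑ F ∈ s, F * c F ∧
        ∀ F ∈ s, c F ≠ 0 → F.totalDegree ≤ n ∧ c F ∈ pc I (n - F.totalDegree)) (n : ℕ) : pc I n ≤ ms s n := by
  induction n using Nat.strong_induction_on with
  | _ n ih =>
    intro p hp
    rcases Nat.eq_zero_or_pos n with rfl | hn
    · obtain ⟨c, rfl⟩ := mem_pc_zero hp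
      rw [← mul_one (C c), ← smul_eq_C_mul]
      exact Submodule.smul_mem _ _ (Submodule.subset_span ⟨0, by simp, by simp⟩)
    · obtain ⟨c, hc, hc'⟩ := hgen n hn p hp
      rw [hc]
      refine Submodule.sum_mem _ fun F hF => ?_
      by_cases h0 : c F = 0
      · rw [h0, mul_zero]; exact zero_mem _
      · obtain ⟨h1, h2⟩ := hc' F hF h0
        have h3 := mul_mem_ms hF (ih _ (Nat.sub_lt hn (hs F hF).1) h2)
        rwa [Nat.add_sub_cancel' h1] at h3

lemma prod_mem_pc (hs : ∀ F ∈ s, 0 < F.totalDegree ∧ F ∈ pc I F.totalDegree) (a : MvPolynomial σ k → ℕ)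
    (t : Finset (MvPolynomial σ k)) (ht : t ⊆ s) :
    ∏ F ∈ t, F ^ a F ∈ pc I (∑ F ∈ t, a F * F.totalDegree) := by
  classical
  induction t using Finset.induction_on with
  | empty => rw [Finset.prod_empty, Finset.sum_empty]; exact ⟨I.one_mem, isHomogeneous_one _ _⟩
  | insert F t hF ih =>
    rw [Finset.prod_insert hF, Finset.sum_insert hF]
    refine mul_mem_pc ?_ (ih ((Finset.subset_insert F t).trans ht))
    exact pow_pc _ _ (Submodule.pow_mem_pow _ (hs F (ht (Finset.mem_insert_self F t))).2 _)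

lemma pc_le_mul (hs : ∀ F ∈ s, 0 < F.totalDegree ∧ F ∈ pc I F.totalDegree)
    (hgen : ∀ n, pc I n ≤ ms s n) {L : ℕ} (hL : ∀ F ∈ s, F.totalDegree ∣ L) {n : ℕ} (hn : s.card * L ≤ n)
    (hn0 : 0 < n) : pc I n ≤ pc I L * pc I (n - L) := by
  classical
  refine (hgen n).trans ?_
  rw [ms, Submodule.span_le]
  rintro _ ⟨a, ha, rfl⟩
  obtain ⟨F, hF, hFL⟩ : ∃ F ∈ s, L ≤ a F * F.totalDegree := by
    by_contra! hcon
    rcases s.eq_empty_or_nonempty with rfl | hne
    · simp at ha
      omega
    · have h1 := Finset.sum_lt_sum_of_nonempty hne hcon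
      rw [ha, Finset.sum_const, smul_eq_mul] at h1
      omega
  obtain ⟨c, hc⟩ := hL F hF
  have hd := (hs F hF).1
  have hca : c ≤ a F := by
    rw [hc, mul_comm] at hFL
    exact Nat.le_of_mul_le_mul_right hFL hd
  have h1 : ∏ G ∈ s, G ^ a G = F ^ c * (F ^ (a F - c) * ∏ G ∈ s.erase F, G ^ a G) := by
    rw [← Finset.mul_prod_erase s _ hF, ← mul_assoc, ← pow_add, Nat.add_sub_cancel' hca]
  rw [h1]
  refine Submodule.mul_mem_mul ?_ ?_
  · have h2 := pow_pc _ c (Submodule.pow_mem_pow _ (hs F hF).2 c)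
    rwa [mul_comm c, ← hc] at h2
  · have h2 := mul_mem_pc (pow_pc _ (a F - c) (Submodule.pow_mem_pow _ (hs F hF).2 (a F - c)))
      (prod_mem_pc hs a (s.erase F) (Finset.erase_subset F s))
    have h3 : (a F - c) * F.totalDegree + ∑ G ∈ s.erase F, a G * G.totalDegree = n - L := by
      rw [← ha, ← Finset.add_sum_erase s _ hF, hc, Nat.sub_mul, mul_comm F.totalDegree c]
      have : c * F.totalDegree ≤ a F * F.totalDegree := Nat.mul_le_mul_right _ hca
      omega
    rwa [h3] at h2

lemma pc_le_pow_mul (hs : ∀ F ∈ s, 0 < F.totalDegree ∧ F ∈ pc I F.totalDegree)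
    (hgen : ∀ n, pc I n ≤ ms s n) {L : ℕ} (hL0 : 0 < L) (hL : ∀ F ∈ s, F.totalDegree ∣ L) (j : ℕ) {n : ℕ}
    (hn : s.card * L + j * L ≤ n) : pc I n ≤ pc I L ^ j * pc I (n - j * L) := by
  induction j with
  | zero => simp
  | succ j ih =>
    have h1 : (j + 1) * L = j * L + L := by ring
    rw [h1] at hn ⊢
    refine (ih (by omega)).trans ?_
    rw [pow_succ, mul_assoc, ← Nat.sub_sub]
    exact mul_le_mul' le_rfl (pc_le_mul hs hgen hL (by omega) (by omega))

end Span

/-- **A Veronese subring generated in degree one.** -/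
theorem exists_veronese [Finite σ] (I : Subalgebra k (MvPolynomial σ k))
    (ρ : MvPolynomial σ k →ₗ[k] MvPolynomial σ k) (h_inv : ∀ p, ρ p ∈ I) (h_eq : ∀ p ∈ I, ρ p = p)
    (h_mul : ∀ p ∈ I, ∀ q, ρ (p * q) = p * ρ q) (h_hom : ∀ d p, p.IsHomogeneous d → (ρ p).IsHomogeneous d) :
    ∃ (m e : ℕ) (f : Fin (m + 1) → MvPolynomial σ k), 0 < e ∧ (∀ i, (f i).IsHomogeneous e) ∧ (∀ i, f i ∈ I) ∧
      ∀ (q : ℕ) (p : MvPolynomial σ k), p.IsHomogeneous (q * e) → p ∈ I →
        ∃ P : MvPolynomial (Fin (m + 1)) k, P.IsHomogeneous q ∧ aeval f P = p := by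
  classical
  obtain ⟨s, hs, hgen⟩ := exists_gens ρ h_inv h_eq h_mul h_hom
  have hgen' := pc_le_ms hs hgen
  set L := ∏ F ∈ s, F.totalDegree with hLdef
  have hL0 : 0 < L := Finset.prod_pos fun F hF => (hs F hF).1
  have hL : ∀ F ∈ s, F.totalDegree ∣ L := fun F hF => Finset.dvd_prod_of_mem _ hF
  set e := (s.card + 1) * L with he
  have he0 : 0 < e := Nat.mul_pos (Nat.succ_pos _) hL0
  have hstep : ∀ q, 1 ≤ q → pc I ((q + 1) * e) ≤ pc I e * pc I (q * e) := by
    intro q hq
    have h1 : s.card * L + (s.card + 1) * L ≤ (q + 1) * e := by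
      have h2 : 2 * e ≤ (q + 1) * e := Nat.mul_le_mul_right _ (by omega)
      have h3 : s.card * L ≤ e := by rw [he]; exact Nat.mul_le_mul_right _ (by omega)
      omega
    have h2 := pc_le_pow_mul hs hgen' hL0 hL (s.card + 1) h1
    have h3 : (q + 1) * e - (s.card + 1) * L = q * e := by
      rw [← he, add_mul, one_mul, Nat.add_sub_cancel]
    rw [h3] at h2
    exact h2.trans (mul_le_mul' (pow_pc _ _) le_rfl)
  -- a spanning family of the piece of degree `e`
  have hfg : (pc I e).FG := by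
    have h1 : (homogeneousSubmodule σ k e).FG := homogeneousSubmodule_fg _ _ _
    have h2 : FiniteDimensional k (homogeneousSubmodule σ k e) := Module.Finite.iff_fg.2 h1
    exact Module.Finite.iff_fg.1 (Submodule.finiteDimensional_of_le (inf_le_right : pc I e ≤ _))
  obtain ⟨t, ht⟩ := hfg
  obtain ⟨m, f, hf⟩ : ∃ (m : ℕ) (f : Fin (m + 1) → MvPolynomial σ k), Submodule.span k (Set.range f) = pc I e := by
    refine ⟨t.card, Fin.cons 0 fun i => (t.equivFin.symm i : MvPolynomial σ k), ?_⟩
    rw [Fin.range_cons, Submodule.span_insert_zero, ← ht]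
    congr 1
    ext x
    constructor
    · rintro ⟨i, rfl⟩
      exact (t.equivFin.symm i).2
    · intro hx
      exact ⟨t.equivFin ⟨x, hx⟩, by simp⟩
  have hfmem : ∀ i, f i ∈ pc I e := fun i => by
    rw [← hf]
    exact Submodule.subset_span ⟨i, rfl⟩
  refine ⟨m, e, f, he0, fun i => (hfmem i).2, fun i => (hfmem i).1, ?_⟩
  have key : ∀ q, pc I (q * e) ≤ (homogeneousSubmodule (Fin (m + 1)) k q).map (aeval f).toLinearMap := by
    have h1 : pc I e ≤ (homogeneousSubmodule (Fin (m + 1)) k 1).map (aeval f).toLinearMap := by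
      rw [← hf, Submodule.span_le]
      rintro _ ⟨i, rfl⟩
      exact ⟨X i, isHomogeneous_X _ _, by simp⟩
    intro q
    induction q with
    | zero =>
      rw [zero_mul]
      intro p hp
      obtain ⟨c, rfl⟩ := mem_pc_zero hp
      exact ⟨C c, isHomogeneous_C _ _, by simp [algebraMap_eq]⟩
    | succ q ih =>
      rcases Nat.eq_zero_or_pos q with rfl | hq
      · rw [zero_add, one_mul]
        exact h1
      · refine (hstep q hq).trans ((mul_le_mul' h1 ih).trans ?_)
        rw [Submodule.mul_le]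
        rintro _ ⟨P, hP, rfl⟩ _ ⟨Q, hQ, rfl⟩
        refine ⟨P * Q, ?_, by simp⟩
        have h2 := IsHomogeneous.mul hP hQ
        rwa [add_comm 1 q] at h2
  intro q p hp hpI
  obtain ⟨P, hP, hP'⟩ := key q ⟨hpI, hp⟩
  exact ⟨P, hP, hP'⟩

end

end K496.KrGen
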