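import Groth.Agent.Coherent.K496.KrRey
import Groth.Agent.Coherent.K496.KrGen
import Groth.Agent.InvQ.K702.PlacePt
import Groth.Agent.S11796
import Groth.Agent.S11804

/-!
# Kronecker modules: King's criterion
-/

set_option autoImplicit false
set_option linter.unusedSectionVars false

universe u v w

open TensorProduct MvPolynomial

namespace K496.KrKing

open Groth.Agent.Sga3B.RG K497.Rat K585.KronK K496.KrRey

noncomputable section

section comb

/-- Counting argument. -/
lemma comb {a b : ℕ} (ha : 0 < a) (hb : 0 < b) (x : Fin a → ℤ) (y : Fin b → ℤ) (hx : ∑ j, x j = 0)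
    (hy : ∑ i, y i = 0)
    (h : ∀ c : ℤ, b * (Finset.univ.filter fun j => x j ≤ c).card ≤
      a * (Finset.univ.filter fun i => -c < y i).card) : False := by
  classical
  obtain ⟨N, hxN, hyN⟩ : ∃ N : ℤ, (∀ j, -N ≤ x j ∧ x j ≤ N) ∧ ∀ i, -N ≤ -y i + 1 ∧ -y i + 1 ≤ N := by
    refine ⟨1 + ∑ j, |x j| + ∑ i, |y i|, fun j => ?_, fun i => ?_⟩
    · have h1 : |x j| ≤ ∑ j, |x j| := Finset.single_le_sum (f := fun j => |x j|) (fun j _ => abs_nonneg _) (Finset.mem_univ j)
      have h2 : 0 ≤ ∑ i, |y i| := Finset.sum_nonneg fun i _ => abs_nonneg _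
      have h3 := neg_abs_le (x j)
      have h4 := le_abs_self (x j)
      constructor <;> linarith
    · have h1 : |y i| ≤ ∑ i, |y i| := Finset.single_le_sum (f := fun i => |y i|) (fun j _ => abs_nonneg _) (Finset.mem_univ i)
      have h2 : 0 ≤ ∑ j, |x j| := Finset.sum_nonneg fun i _ => abs_nonneg _
      have h3 := neg_abs_le (y i)
      have h4 := le_abs_self (y i)
      constructor <;> linarith
  have h1 : ∑ c ∈ Finset.Ico (-N) N, ((Finset.univ.filter fun j => x j ≤ c).card : ℤ) = a * N := by
    have h2 : ∀ c, ((Finset.univ.filter fun j => x j ≤ c).card : ℤ) = ∑ j, if x j ≤ c then 1 else 0 := by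
      intro c
      rw [Finset.card_filter]
      push_cast
      rfl
    simp only [h2]
    rw [Finset.sum_comm]
    have h3 : ∀ j, (∑ c ∈ Finset.Ico (-N) N, if x j ≤ c then (1 : ℤ) else 0) = N - x j := by
      intro j
      have h4 : ((Finset.Ico (-N) N).filter fun c => x j ≤ c) = Finset.Ico (x j) N := by
        ext c
        simp only [Finset.mem_filter, Finset.mem_Ico]
        have := hxN j
        omega
      rw [← Finset.sum_filter, h4, Finset.sum_const, Int.card_Ico, nsmul_eq_mul, mul_one,
        Int.toNat_of_nonneg (by have := hxN j; omega)]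
    simp only [h3]
    rw [Finset.sum_sub_distrib, hx, sub_zero, Finset.sum_const, Finset.card_univ, Fintype.card_fin, nsmul_eq_mul]
  have h2 : ∑ c ∈ Finset.Ico (-N) N, ((Finset.univ.filter fun i => -c < y i).card : ℤ) = b * N - b := by
    have h2 : ∀ c, ((Finset.univ.filter fun i => -c < y i).card : ℤ) = ∑ i, if -c < y i then 1 else 0 := by
      intro c
      rw [Finset.card_filter]
      push_cast
      rfl
    simp only [h2]
    rw [Finset.sum_comm]
    have h3 : ∀ i, (∑ c ∈ Finset.Ico (-N) N, if -c < y i then (1 : ℤ) else 0) = N - 1 + y i := by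
      intro i
      have h4 : ((Finset.Ico (-N) N).filter fun c => -c < y i) = Finset.Ico (-y i + 1) N := by
        ext c
        simp only [Finset.mem_filter, Finset.mem_Ico]
        have := hyN i
        omega
      rw [← Finset.sum_filter, h4, Finset.sum_const, Int.card_Ico, nsmul_eq_mul, mul_one,
        Int.toNat_of_nonneg (by have := hyN i; omega)]
      ring
    simp only [h3]
    rw [Finset.sum_add_distrib, hy, add_zero, Finset.sum_const, Finset.card_univ, Fintype.card_fin, nsmul_eq_mul]
    ring
  have h3 : ∑ c ∈ Finset.Ico (-N) N, ((b * (Finset.univ.filter fun j => x j ≤ c).card : ℕ) : ℤ) ≤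
      ∑ c ∈ Finset.Ico (-N) N, ((a * (Finset.univ.filter fun i => -c < y i).card : ℕ) : ℤ) :=
    Finset.sum_le_sum fun c _ => by exact_mod_cast h c
  push_cast at h3
  rw [← Finset.mul_sum, ← Finset.mul_sum, h1, h2] at h3
  have h4 : (0 : ℤ) < a * b := by positivity
  nlinarith

end comb

section weights

open IsLocalRing

variable {R : Type u} [CommRing R] [IsDomain R] [ValuationRing R] {K : Type u} [Field K] [Algebra R K]
  [IsFractionRing R K]

lemma valuation_lt_one_of_mem {r : R} (hr : r ∈ maximalIdeal R) :
    ValuationRing.valuation R K (algebraMap R K r) < 1 := by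
  refine lt_of_le_of_ne ?_ ?_
  · exact (ValuationRing.mem_integer_iff R K _).2 ⟨r, rfl⟩
  · intro h1
    by_cases hr0 : r = 0
    · rw [hr0, map_zero, map_zero] at h1
      exact zero_ne_one h1
    · have h2 : ValuationRing.valuation R K (algebraMap R K r)⁻¹ ≤ 1 := by
        rw [map_inv₀, h1, inv_one]
      obtain ⟨s, hs⟩ := (ValuationRing.mem_integer_iff R K _).1 h2
      have h3 : algebraMap R K (r * s) = 1 := by
        rw [map_mul, hs, mul_inv_cancel₀]
        rwa [map_ne_zero_iff _ (IsFractionRing.injective R K)]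
      have h4 : r * s = 1 := by
        apply IsFractionRing.injective R K
        rw [h3, map_one]
      exact (mem_maximalIdeal r).1 hr (IsUnit.of_mul_eq_one s h4)

/-- Integer weights from the diagonal entries. -/
theorem exists_weights {a b : ℕ} (d : Fin b → K) (d' : Fin a → K) (h : ∏ i, d i = 1) (h' : ∏ j, d' j = 1) :
    ∃ (y : Fin b → ℤ) (x : Fin a → ℤ), ∑ i, y i = 0 ∧ ∑ j, x j = 0 ∧
      ∀ i j, (∃ r ∈ maximalIdeal R, algebraMap R K r = d i * d' j) → 0 < y i + x j := by
  classical
  let v := ValuationRing.valuation R K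
  have hd : ∀ i, d i ≠ 0 := fun i => by
    have h1 : (∏ i, d i) ≠ 0 := by rw [h]; exact one_ne_zero
    exact Finset.prod_ne_zero_iff.1 h1 i (Finset.mem_univ i)
  have hd' : ∀ i, d' i ≠ 0 := fun i => by
    have h1 : (∏ i, d' i) ≠ 0 := by rw [h']; exact one_ne_zero
    exact Finset.prod_ne_zero_iff.1 h1 i (Finset.mem_univ i)
  let t : Fin b → Kˣ := fun i => Units.mk0 (d i) (hd i)
  let t' : Fin a → Kˣ := fun i => Units.mk0 (d' i) (hd' i)
  let V := Units.map (v : K →* ValuationRing.ValueGroup R K)
  let χ : Fin (b + a) → Additive (ValuationRing.ValueGroup R K)ˣ :=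
    Fin.append (fun i => Additive.ofMul (V (t i))⁻¹) (fun j => Additive.ofMul (V (t' j))⁻¹)
  let Φ : Finset (Fin (b + a) → ℤ) :=
    (Finset.univ.image fun p : Fin b × Fin a => Fin.append (Pi.single p.1 1) (Pi.single p.2 1)) ∪
      {Fin.append (fun _ => 1) (fun _ => 0), Fin.append (fun _ => 0) (fun _ => 1)}
  obtain ⟨r, hr⟩ := Groth.Agent.S11804.result (Additive (ValuationRing.ValueGroup R K)ˣ) (b + a) χ Φ
  refine ⟨fun i => r (Fin.castAdd a i), fun j => r (Fin.natAdd b j), ?_, ?_, fun i j hij => ?_⟩
  · have h1 := (hr (Fin.append (fun _ => 1) (fun _ => 0)) (by simp [Φ])).2.1 ?_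
    · rw [Fin.sum_univ_add] at h1
      simpa using h1
    · rw [Fin.sum_univ_add]
      simp only [χ, Fin.append_left, Fin.append_right, one_smul, zero_smul, Finset.sum_const_zero, add_zero]
      rw [← ofMul_prod, Finset.prod_inv_distrib, ← map_prod]
      have h2 : ∏ i, t i = 1 := by
        apply Units.ext
        rw [Units.coe_prod]
        exact h
      rw [h2, map_one, inv_one, ofMul_one]
  · have h1 := (hr (Fin.append (fun _ => 0) (fun _ => 1)) (by simp [Φ])).2.1 ?_
    · rw [Fin.sum_univ_add] at h1
      simpa using h1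
    · rw [Fin.sum_univ_add]
      simp only [χ, Fin.append_left, Fin.append_right, one_smul, zero_smul, Finset.sum_const_zero, zero_add]
      rw [← ofMul_prod, Finset.prod_inv_distrib, ← map_prod]
      have h2 : ∏ i, t' i = 1 := by
        apply Units.ext
        rw [Units.coe_prod]
        exact h'
      rw [h2, map_one, inv_one, ofMul_one]
  · have h1 := (hr (Fin.append (Pi.single i 1) (Pi.single j 1)) (Finset.mem_union_left _
      (Finset.mem_image.2 ⟨(i, j), Finset.mem_univ _, rfl⟩))).1.1 ?_
    · rw [Fin.sum_univ_add] at h1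
      simpa [Pi.single_apply] using h1
    · rw [Fin.sum_univ_add]
      simp only [χ, Fin.append_left, Fin.append_right, Pi.single_apply, ite_smul, one_smul, zero_smul,
        Finset.sum_ite_eq', Finset.mem_univ, if_true]
      obtain ⟨s, hs, hs'⟩ := hij
      rw [← ofMul_mul, ← mul_inv, ← map_mul]
      change (1 : (ValuationRing.ValueGroup R K)ˣ) < (V (t i * t' j))⁻¹
      rw [one_lt_inv']
      change ((V (t i * t' j) : (ValuationRing.ValueGroup R K)ˣ) : ValuationRing.ValueGroup R K) < 1
      change v (d i * d' j) < 1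
      rw [← hs']
      exact valuation_lt_one_of_mem hs

end weights

section degen

variable {K : Type u} [Field K] {a b h : ℕ}

/-- An adapted basis. -/
lemma exists_adapted {n : ℕ} (V : Submodule K (Fin n → K)) :
    ∃ (B : Module.Basis (Fin n) K (Fin n → K)) (s : Finset (Fin n)), s.card = Module.finrank K V ∧
      (∀ j ∈ s, B j ∈ V) ∧ ∀ v ∈ V, ∀ j, j ∉ s → B.repr v j = 0 := by
  classical
  obtain ⟨W, hW⟩ := V.exists_isCompl
  let B₀ : Module.Basis (Fin (Module.finrank K V) ⊕ Fin (Module.finrank K W)) K (Fin n → K) :=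
    ((Module.finBasis K V).prod (Module.finBasis K W)).map (Submodule.prodEquivOfIsCompl V W hW)
  have hcard : Fintype.card (Fin (Module.finrank K V) ⊕ Fin (Module.finrank K W)) = n := by
    have h1 := Module.finrank_eq_card_basis B₀
    rw [← h1, Module.finrank_fin_fun]
  let e : (Fin (Module.finrank K V) ⊕ Fin (Module.finrank K W)) ≃ Fin n := Fintype.equivFinOfCardEq hcard
  refine ⟨B₀.reindex e, Finset.univ.map ⟨fun i : Fin (Module.finrank K V) => e (Sum.inl i),
    fun i j hij => Sum.inl_injective (e.injective hij)⟩, ?_, ?_, ?_⟩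
  · rw [Finset.card_map, Finset.card_univ, Fintype.card_fin]
  · intro j hj
    obtain ⟨i, -, hi⟩ := Finset.mem_map.1 hj
    have hi' : e (Sum.inl i) = j := hi
    rw [← hi']
    simp [B₀]
  · intro v hv j hj
    obtain ⟨i, rfl⟩ := e.surjective j
    rcases i with i | i
    · exact absurd (Finset.mem_map.2 ⟨i, Finset.mem_univ _, rfl⟩) hj
    · have h1 : (Submodule.prodEquivOfIsCompl V W hW).symm v = (⟨v, hv⟩, 0) := by
        rw [LinearEquiv.symm_apply_eq]
        simp
      simp [B₀, h1]

lemma prod_zpow_sum {t : K} (ht : t ≠ 0) {n : ℕ} (y : Fin n → ℤ) (s : Finset (Fin n)) :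
    ∏ i ∈ s, t ^ y i = t ^ ∑ i ∈ s, y i := by
  classical
  induction s using Finset.induction_on with
  | empty => simp
  | insert i s hi ih => rw [Finset.prod_insert hi, Finset.sum_insert hi, ih, zpow_add₀ ht]

lemma evr_zero_of_homogeneous {B : Type*} [CommRing B] (c : K →+* B) {d : ℕ} (hd : 0 < d) {p : Poly K a b h}
    (hp : p.IsHomogeneous d) : evr c (0 : Kr a b h B) p = 0 := by
  have h1 : evr c (0 : Kr a b h B) p = c (constantCoeff p) := by
    have : evr c (0 : Kr a b h B) = c.comp constantCoeff := by
      apply MvPolynomial.ringHom_ext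
      · intro z; simp [evr]
      · intro i; simp [evr]
    rw [this]
    rfl
  rw [h1, constantCoeff_eq, hp.coeff_eq_zero, map_zero]
  simpa using hd.ne

/-- One-parameter degenerations: all invariants vanish. -/
theorem evr_eq_zero_of_not_isSS [Infinite K] (ha : 0 < a) (hb : 0 < b) {α : Kr a b h K} (hα : ¬ IsSS α) {d : ℕ} (hd : 0 < d)
    {p : Poly K a b h} (hp : p.IsHomogeneous d) (hpi : IsInv p) : evr (RingHom.id K) α p = 0 := by
  classical
  rw [IsSS] at hα
  push Not at hα
  obtain ⟨V', hV'⟩ := hα
  set W' : Submodule K (Fin b → K) := ⨆ l, V'.map (α l).mulVecLin with hW'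
  obtain ⟨P, s, hs, hsV, hsV'⟩ := exists_adapted V'
  obtain ⟨Q, s', hs', hsW, hsW'⟩ := exists_adapted W'
  rw [← hs, ← hs'] at hV'
  -- weights
  let x : Fin a → ℤ := fun j => if j ∈ s then -((a : ℤ) - s.card) * b else s.card * b
  let y : Fin b → ℤ := fun i => if i ∈ s' then ((b : ℤ) - s'.card) * a else -(s'.card * a)
  have hsa : s.card ≤ a := by
    have := Finset.card_le_univ s
    rwa [Fintype.card_fin] at this
  have hsb : s'.card ≤ b := by
    have := Finset.card_le_univ s'
    rwa [Fintype.card_fin] at this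
  have hx : ∑ j, x j = 0 := by
    simp only [x]
    rw [Finset.sum_ite, Finset.sum_const, Finset.sum_const, Finset.filter_mem_eq_inter, Finset.univ_inter,
      Finset.filter_not, Finset.filter_mem_eq_inter, Finset.univ_inter, ← Finset.compl_eq_univ_sdiff,
      Finset.card_compl, Fintype.card_fin]
    simp only [nsmul_eq_mul]
    push_cast [Nat.cast_sub hsa]
    ring
  have hy : ∑ i, y i = 0 := by
    simp only [y]
    rw [Finset.sum_ite, Finset.sum_const, Finset.sum_const, Finset.filter_mem_eq_inter, Finset.univ_inter,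
      Finset.filter_not, Finset.filter_mem_eq_inter, Finset.univ_inter, ← Finset.compl_eq_univ_sdiff,
      Finset.card_compl, Fintype.card_fin]
    simp only [nsmul_eq_mul]
    push_cast [Nat.cast_sub hsb]
    ring
  have hxy : ∀ i j, (j ∈ s → i ∈ s') → 0 < y i + x j := by
    intro i j hij
    have hV'' : (a * s'.card : ℤ) < b * s.card := by exact_mod_cast hV'
    have ha' : (0 : ℤ) < a := by exact_mod_cast ha
    have hb' : (0 : ℤ) < b := by exact_mod_cast hb
    have h1 : (s.card : ℤ) ≤ a := by exact_mod_cast hsa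
    have h2 : (s'.card : ℤ) ≤ b := by exact_mod_cast hsb
    have h3 : (0 : ℤ) ≤ s.card := by positivity
    have h4 : (0 : ℤ) ≤ s'.card := by positivity
    simp only [x, y]
    split_ifs with hi hj hj
    · nlinarith
    · have h5 : 0 ≤ ((b : ℤ) - s'.card) * a := mul_nonneg (by linarith) ha'.le
      have h6 : (0 : ℤ) < s.card * b := by nlinarith
      linarith
    · exact absurd (hij hj) hi
    · nlinarith
  -- matrices
  let Pm : Matrix (Fin a) (Fin a) K := (Pi.basisFun K (Fin a)).toMatrix P
  let Pi' : Matrix (Fin a) (Fin a) K := P.toMatrix (Pi.basisFun K (Fin a))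
  let Qm : Matrix (Fin b) (Fin b) K := (Pi.basisFun K (Fin b)).toMatrix Q
  let Qi : Matrix (Fin b) (Fin b) K := Q.toMatrix (Pi.basisFun K (Fin b))
  have hPP : Pm * Pi' = 1 := Module.Basis.toMatrix_mul_toMatrix_flip _ _
  have hPP' : Pi' * Pm = 1 := Module.Basis.toMatrix_mul_toMatrix_flip _ _
  have hQQ : Qm * Qi = 1 := Module.Basis.toMatrix_mul_toMatrix_flip _ _
  have hQQ' : Qi * Qm = 1 := Module.Basis.toMatrix_mul_toMatrix_flip _ _
  let M : Kr a b h K := fun l => Qi * α l * Pm
  have hM : ∀ l i j, j ∈ s → i ∉ s' → M l i j = 0 := by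
    intro l i j hj hi
    have h1 : M l i j = Q.repr ((α l).mulVec (P j)) i := by
      have h2 : Pm.col j = P j := by
        ext i'
        simp [Pm, Module.Basis.toMatrix_apply, Matrix.col]
      have h3 : (Qi * α l * Pm) i j = (Qi.mulVec ((α l).mulVec (Pm.col j))) i := by
        rw [Matrix.mulVec_mulVec]
        rfl
      change (Qi * α l * Pm) i j = _
      rw [h3, h2]
      have h4 := Module.Basis.toMatrix_mulVec_repr (Pi.basisFun K (Fin b)) Q ((α l).mulVec (P j))
      have h5 := congrFun h4 i
      rw [← h5]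
      congr 1
    rw [h1]
    refine hsW' _ ?_ i hi
    rw [hW']
    exact Submodule.mem_iSup_of_mem l ⟨P j, hsV j hj, rfl⟩
  have hαM : ∀ l, α l = Qm * M l * Pi' := by
    intro l
    simp only [M]
    calc α l = (Qm * Qi) * α l * (Pm * Pi') := by rw [hQQ, hPP, Matrix.one_mul, Matrix.mul_one]
      _ = _ := by simp only [Matrix.mul_assoc]
  -- the family over the affine line
  let N : Kr a b h (Polynomial K) := fun l => Matrix.of fun i j =>
    Polynomial.C (M l i j) * Polynomial.X ^ (y i + x j).toNat
  let A' : Kr a b h (Polynomial K) := fun l => Qm.map Polynomial.C * N l * Pi'.map Polynomial.C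
  let F : Polynomial K := evr Polynomial.C A' p
  have hF : ∀ t : K, F.eval t = evr (RingHom.id K) (fun l => (A' l).map (Polynomial.eval t)) p := by
    intro t
    have h1 := evr_comp Polynomial.C (Polynomial.evalRingHom t) A' p
    have h2 : (Polynomial.evalRingHom t).comp Polynomial.C = RingHom.id K := by
      ext z
      simp
    rw [h2] at h1
    exact h1
  have hA : ∀ (t : K) l, (A' l).map (Polynomial.eval t) = Qm * (N l).map (Polynomial.eval t) * Pi' := by
    intro t l
    have h1 : (A' l).map (Polynomial.evalRingHom t) = Qm * (N l).map (Polynomial.evalRingHom t) * Pi' := by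
      simp only [A']
      rw [Matrix.map_mul, Matrix.map_mul]
      congr 1
      · congr 1
        ext i j
        simp
      · ext i j
        simp
    exact h1
  have hF0 : F.eval 0 = 0 := by
    rw [hF]
    have h1 : (fun l => (A' l).map (Polynomial.eval 0)) = (0 : Kr a b h K) := by
      funext l
      rw [hA]
      have h2 : (N l).map (Polynomial.eval 0) = 0 := by
        ext i j
        simp only [N, Matrix.map_apply, Matrix.of_apply, Matrix.zero_apply, Polynomial.eval_mul, Polynomial.eval_C,
          Polynomial.eval_pow, Polynomial.eval_X]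
        by_cases hij : j ∈ s → i ∈ s'
        · have h3 := hxy i j hij
          rw [zero_pow (by omega), mul_zero]
        · push Not at hij
          rw [hM l i j hij.1 hij.2, zero_mul]
      rw [h2, Matrix.mul_zero, Matrix.zero_mul]
      rfl
    rw [h1]
    exact evr_zero_of_homogeneous _ hd hp
  have hFt : ∀ t : K, t ≠ 0 → F.eval t = evr (RingHom.id K) α p := by
    intro t ht
    rw [hF]
    let kt : Matrix (Fin b) (Fin b) K := Qm * Matrix.diagonal (fun i => t ^ y i) * Qi
    let gt : Matrix (Fin a) (Fin a) K := Pm * Matrix.diagonal (fun j => t ^ x j) * Pi'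
    have hk : kt.det = 1 := by
      simp only [kt]
      rw [Matrix.det_mul, Matrix.det_mul, mul_right_comm, ← Matrix.det_mul, hQQ, Matrix.det_one, one_mul,
        Matrix.det_diagonal, prod_zpow_sum ht, hy, zpow_zero]
    have hg : gt.det = 1 := by
      simp only [gt]
      rw [Matrix.det_mul, Matrix.det_mul, mul_right_comm, ← Matrix.det_mul, hPP, Matrix.det_one, one_mul,
        Matrix.det_diagonal, prod_zpow_sum ht, hx, zpow_zero]
    rw [← hpi kt gt α hk hg]
    congr 2
    funext l
    rw [hA]
    have h1 : (N l).map (Polynomial.eval t) =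
        Matrix.diagonal (fun i => t ^ y i) * M l * Matrix.diagonal (fun j => t ^ x j) := by
      ext i j
      rw [Matrix.mul_diagonal, Matrix.diagonal_mul]
      simp only [N, Matrix.map_apply, Matrix.of_apply, Polynomial.eval_mul, Polynomial.eval_C,
          Polynomial.eval_pow, Polynomial.eval_X]
      by_cases hij : j ∈ s → i ∈ s'
      · have h3 := hxy i j hij
        rw [← zpow_natCast, Int.toNat_of_nonneg h3.le, zpow_add₀ ht]
        ring
      · push Not at hij
        rw [hM l i j hij.1 hij.2]
        ring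
    rw [h1, act, hαM l]
    simp only [kt, gt]
    calc Qm * (Matrix.diagonal (fun i => t ^ y i) * M l * Matrix.diagonal (fun j => t ^ x j)) * Pi'
        = Qm * Matrix.diagonal (fun i => t ^ y i) * (1 : Matrix (Fin b) (Fin b) K) * M l *
            (1 : Matrix (Fin a) (Fin a) K) * Matrix.diagonal (fun j => t ^ x j) * Pi' := by
          simp only [Matrix.mul_assoc, Matrix.mul_one]
      _ = Qm * Matrix.diagonal (fun i => t ^ y i) * (Qi * Qm) * M l * (Pi' * Pm) *
            Matrix.diagonal (fun j => t ^ x j) * Pi' := by rw [hQQ', hPP']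
      _ = _ := by simp only [Matrix.mul_assoc]
  have hFC : F = Polynomial.C (evr (RingHom.id K) α p) := by
    rw [← sub_eq_zero]
    apply Polynomial.eq_zero_of_infinite_isRoot
    refine (Set.finite_singleton (0 : K)).infinite_compl.mono fun t ht => ?_
    change (F - Polynomial.C (evr (RingHom.id K) α p)).IsRoot t
    rw [Polynomial.IsRoot.def, Polynomial.eval_sub, Polynomial.eval_C, hFt t ht, sub_self]
  rw [hFC, Polynomial.eval_C] at hF0
  exact hF0

end degen

section hm

open IsLocalRing

variable {K : Type u} [Field K] {a b h : ℕ}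

lemma isInv_C (c : K) : IsInv (C c : Poly K a b h) := fun k g α _ _ => by rw [evr_C, evr_C]

/-- If all invariants vanish at `α`, every polynomial vanishing on the orbit has no constant term. -/
lemma constantCoeff_eq_zero {ρ : Poly K a b h →ₗ[K] Poly K a b h} (hρ : IsRey ρ) {α : Kr a b h K}
    (hall : ∀ d, 0 < d → ∀ p : Poly K a b h, p.IsHomogeneous d → IsInv p → evr (RingHom.id K) α p = 0)
    {p : Poly K a b h} (hp : ∀ (k : Matrix (Fin b) (Fin b) K) (g : Matrix (Fin a) (Fin a) K), k.det = 1 →
      g.det = 1 → evr (RingHom.id K) (act k g α) p = 0) : constantCoeff p = 0 := by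
  let J : Submodule K (Poly K a b h) :=
    { carrier := {p | ∀ (k : Matrix (Fin b) (Fin b) K) (g : Matrix (Fin a) (Fin a) K), k.det = 1 →
        g.det = 1 → evr (RingHom.id K) (act k g α) p = 0}
      add_mem' := fun {p q} hp hq k g hk hg => by rw [map_add, hp k g hk hg, hq k g hk hg, add_zero]
      zero_mem' := fun k g hk hg => map_zero _
      smul_mem' := fun c p hp k g hk hg => by
        rw [MvPolynomial.smul_eq_C_mul, map_mul, hp k g hk hg, mul_zero] }
  have hJ : ∀ (k : Matrix (Fin b) (Fin b) K) (g : Matrix (Fin a) (Fin a) K), k.det = 1 → g.det = 1 →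
      ∀ q ∈ J, sub k g q ∈ J := by
    intro k g hk hg q hq k' g' hk' hg'
    rw [evr_sub]
    have h1 : act (k.map (RingHom.id K)) (g.map (RingHom.id K)) (act k' g' α) = act (k * k') (g' * g) α := by
      rw [act_act]
      rfl
    rw [h1]
    exact hq _ _ (by rw [Matrix.det_mul, hk, hk', one_mul]) (by rw [Matrix.det_mul, hg, hg', one_mul])
  have hnat : ∀ (f : Poly K a b h →ₗ[K] Poly K a b h) (x : K ⊗[K] Poly K a b h),
      TensorProduct.lid K _ (f.lTensor K x) = f (TensorProduct.lid K _ x) := by
    intro f x
    induction x with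
    | zero => simp
    | add x y hx hy => simp only [map_add, hx, hy]
    | tmul c q => simp
  have hst := hρ.stable K (J.comap (TensorProduct.lid K (Poly K a b h)).toLinearMap) (by
    intro k g hk hg x hx
    rw [Submodule.mem_comap, Submodule.mem_comap, LinearEquiv.coe_coe, hnat]
    exact hJ k g hk hg _ hx)
  have hρJ : ρ p ∈ J := by
    have h1 : (1 : K) ⊗ₜ[K] p ∈ J.comap (TensorProduct.lid K (Poly K a b h)).toLinearMap := by
      rw [Submodule.mem_comap, LinearEquiv.coe_coe, TensorProduct.lid_tmul, one_smul]
      exact hp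
    have h2 := hst h1
    rw [Submodule.mem_comap, Submodule.mem_comap, LinearEquiv.coe_coe, hnat, TensorProduct.lid_tmul, one_smul] at h2
    exact h2
  have h0 : evr (RingHom.id K) α (ρ p) = 0 := by
    have h1 := hρJ 1 1 (by simp) (by simp)
    have h2 : act (1 : Matrix (Fin b) (Fin b) K) (1 : Matrix (Fin a) (Fin a) K) α = α := by
      funext l
      rw [act, Matrix.one_mul, Matrix.mul_one]
    rwa [h2] at h1
  have h1 : ρ p = ∑ d ∈ Finset.range (p.totalDegree + 1), ρ (homogeneousComponent d p) := by
    rw [← map_sum, sum_homogeneousComponent]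
  rw [h1, map_sum, Finset.sum_range_succ', homogeneousComponent_zero, hρ.eq _ (isInv_C _), evr_C] at h0
  rw [Finset.sum_eq_zero fun d _ => hall (d + 1) (Nat.succ_pos d) _
    (hρ.hom _ _ (homogeneousComponent_isHomogeneous _ _)) (hρ.inv _), zero_add] at h0
  exact h0

/-- **Hilbert--Mumford for Kronecker modules.** -/
theorem exists_of_isSS [IsAlgClosed K] {ρ : Poly K a b h →ₗ[K] Poly K a b h} (hρ : IsRey ρ) (ha : 0 < a) (hb : 0 < b) {α : Kr a b h K}
    (hα : IsSS α) : ∃ d, 0 < d ∧ ∃ p : Poly K a b h, p.IsHomogeneous d ∧ IsInv p ∧ evr (RingHom.id K) α p ≠ 0 := by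
  classical
  by_contra! hcon
  have hall : ∀ d, 0 < d → ∀ p : Poly K a b h, p.IsHomogeneous d → IsInv p → evr (RingHom.id K) α p = 0 := hcon
  let 𝒜 := CoordGrp.SLn b K ⊗[K] CoordGrp.SLn a K
  let iL : CoordGrp.SLn b K →ₐ[K] 𝒜 := Algebra.TensorProduct.includeLeft
  let iR : CoordGrp.SLn a K →ₐ[K] 𝒜 := Algebra.TensorProduct.includeRight
  let kg : Matrix (Fin b) (Fin b) 𝒜 := K702.SL.mat iL
  let gg : Matrix (Fin a) (Fin a) 𝒜 := K702.SL.mat iR
  let φ : Poly K a b h →ₐ[K] 𝒜 :=
    { evr (algebraMap K 𝒜) (act kg gg fun l => (α l).map (algebraMap K 𝒜)) with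
      commutes' := fun c => evr_C _ _ c }
  let z : Poly K a b h →ₐ[K] K :=
    { (constantCoeff : Poly K a b h →+* K) with
      commutes' := fun c => constantCoeff_C _ c }
  have hz : RingHom.ker φ ≤ RingHom.ker z := by
    intro p hp
    refine constantCoeff_eq_zero hρ hall fun k g hk hg => ?_
    let χ : 𝒜 →ₐ[K] K := Algebra.TensorProduct.lift (CoordGrp.SLn.pt b K k hk) (CoordGrp.SLn.pt a K g hg)
      fun _ _ => Commute.all _ _
    have h1 : χ (φ p) = 0 := by
      rw [show φ p = 0 from hp, map_zero]
    have h2 : χ (φ p) = evr (χ.toRingHom.comp (algebraMap K 𝒜))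
        (fun l => (act kg gg (fun l => (α l).map (algebraMap K 𝒜)) l).map χ) p :=
      evr_comp (algebraMap K 𝒜) χ.toRingHom _ p
    have h3 : χ.toRingHom.comp (algebraMap K 𝒜) = RingHom.id K := by
      ext c
      exact χ.commutes c
    have h4 : (fun l => (act kg gg (fun l => (α l).map (algebraMap K 𝒜)) l).map χ) = act k g α := by
      funext l
      have h5 := map_act χ.toRingHom kg gg (fun l => (α l).map (algebraMap K 𝒜)) l
      have h6 : kg.map χ = k := by
        have h7 := K702.SL.mat_comp χ iL
        have h8 : χ.comp iL = CoordGrp.SLn.pt b K k hk :=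
          Algebra.TensorProduct.lift_comp_includeLeft _ _ _
        rw [h8, K702.SL.mat_pt] at h7
        exact h7.symm
      have h6' : gg.map χ = g := by
        have h7 := K702.SL.mat_comp χ iR
        have h8 : χ.comp iR = CoordGrp.SLn.pt a K g hg :=
          Algebra.TensorProduct.lift_comp_includeRight _ _ fun _ _ => Commute.all _ _
        rw [h8, K702.SL.mat_pt] at h7
        exact h7.symm
      have h9 : (fun l => ((α l).map (algebraMap K 𝒜)).map χ) = α := by
        funext l
        ext i j
        exact χ.commutes _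
      refine h5.trans ?_
      change act (kg.map χ) (gg.map χ) (fun l => ((α l).map (algebraMap K 𝒜)).map χ) l = _
      rw [h6, h6', h9]
    rw [h2, h3, h4] at h1
    exact h1
  obtain ⟨R, _, _, _, _, res, Ξ, η, hker, hη, hres⟩ := K702.Place.exists_valuation_point φ z hz
  let F := FractionRing R
  let ι : R →ₐ[K] F := IsScalarTower.toAlgHom K R (FractionRing R)
  obtain ⟨A1, B1, d1, hA1, hB1, h1⟩ := Groth.Agent.S11796.result R F b (K702.SL.mat (Ξ.comp iL))
  obtain ⟨A2, B2, d2, hA2, hB2, h2⟩ := Groth.Agent.S11796.result R F a (K702.SL.mat (Ξ.comp iR))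
  have hdet : ∀ {n : ℕ} (M : Matrix (Fin n) (Fin n) R), M.det = 1 → (M.map (algebraMap R F)).det = 1 := by
    intro n M hM
    have := (algebraMap R F).map_det M
    rw [hM, map_one] at this
    exact this.symm
  have hd1 : ∏ i, d1 i = 1 := by
    have h3 := K702.SL.det_mat (Ξ.comp iL)
    rw [h1, Matrix.det_mul, Matrix.det_mul, hdet A1 hA1, hdet B1 hB1, one_mul, mul_one, Matrix.det_diagonal] at h3
    exact h3
  have hd2 : ∏ i, d2 i = 1 := by
    have h3 := K702.SL.det_mat (Ξ.comp iR)
    rw [h2, Matrix.det_mul, Matrix.det_mul, hdet A2 hA2, hdet B2 hB2, one_mul, mul_one, Matrix.det_diagonal] at h3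
    exact h3
  obtain ⟨y, x, hy, hx, hxy⟩ := exists_weights (R := R) d1 d2 hd1 hd2
  -- the middle matrices
  let m : Kr a b h R := fun l => B1 * (α l).map (algebraMap K R) * A2
  let nn : Kr a b h R := fun l => Matrix.of fun i j => η (X (l, i, j))
  have hnn : ∀ l i j, nn l i j ∈ maximalIdeal R := by
    intro l i j
    rw [← hker]
    change res (η (X (l, i, j))) = 0
    have h3 := DFunLike.congr_fun hres (X (l, i, j))
    rw [AlgHom.comp_apply] at h3
    rw [h3]
    change constantCoeff (X (l, i, j) : Poly K a b h) = 0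
    simp
  have hnK : ∀ l, (nn l).map (algebraMap R F) = A1.map (algebraMap R F) * (Matrix.diagonal d1 *
      (m l).map (algebraMap R F) * Matrix.diagonal d2) * B2.map (algebraMap R F) := by
    intro l
    have h3 : (nn l).map (algebraMap R F) = K702.SL.mat (Ξ.comp iL) * (α l).map (algebraMap K F) *
        K702.SL.mat (Ξ.comp iR) := by
      have h4 := map_act Ξ.toRingHom kg gg (fun l => (α l).map (algebraMap K 𝒜)) l
      have h5 : (act kg gg (fun l => (α l).map (algebraMap K 𝒜)) l).map Ξ = (nn l).map (algebraMap R F) := by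
        ext i j
        have h6 := DFunLike.congr_fun hη (X (l, i, j))
        rw [AlgHom.comp_apply, AlgHom.comp_apply] at h6
        have h7 : φ (X (l, i, j)) = act kg gg (fun l => (α l).map (algebraMap K 𝒜)) l i j := evr_X _ _ _
        rw [h7] at h6
        exact h6.symm
      rw [← h5]
      refine h4.trans ?_
      have h8 : ((α l).map (algebraMap K 𝒜)).map Ξ = (α l).map (algebraMap K F) := by
        ext i j
        exact Ξ.commutes _
      change kg.map Ξ * ((α l).map (algebraMap K 𝒜)).map Ξ * gg.map Ξ = _
      rw [h8]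
      rfl
    rw [h3, h1, h2]
    simp only [m]
    rw [Matrix.map_mul, Matrix.map_mul]
    have h9 : ((α l).map (algebraMap K R)).map (algebraMap R F) = (α l).map (algebraMap K F) := by
      ext i j
      exact (IsScalarTower.algebraMap_apply K R F _).symm
    rw [h9]
    simp only [Matrix.mul_assoc]
  have hmem : ∀ l i j, ∃ r ∈ maximalIdeal R, algebraMap R F r = d1 i * algebraMap R F (m l i j) * d2 j := by
    intro l i j
    refine ⟨(A1.adjugate * nn l * B2.adjugate) i j, ?_, ?_⟩
    · rw [Matrix.mul_apply]
      refine Ideal.sum_mem _ fun j' _ => Ideal.mul_mem_right _ _ ?_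
      rw [Matrix.mul_apply]
      exact Ideal.sum_mem _ fun i' _ => Ideal.mul_mem_left _ _ (hnn _ _ _)
    · have h3 : (A1.adjugate * nn l * B2.adjugate).map (algebraMap R F) = Matrix.diagonal d1 *
          (m l).map (algebraMap R F) * Matrix.diagonal d2 := by
        rw [Matrix.map_mul, Matrix.map_mul, hnK]
        have h4 : A1.adjugate.map (algebraMap R F) * A1.map (algebraMap R F) = 1 := by
          rw [← Matrix.map_mul, Matrix.adjugate_mul, hA1, one_smul, Matrix.map_one _ (map_zero _) (map_one _)]
        have h5 : B2.map (algebraMap R F) * B2.adjugate.map (algebraMap R F) = 1 := by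
          rw [← Matrix.map_mul, Matrix.mul_adjugate, hB2, one_smul, Matrix.map_one _ (map_zero _) (map_one _)]
        calc A1.adjugate.map (algebraMap R F) * (A1.map (algebraMap R F) * (Matrix.diagonal d1 *
              (m l).map (algebraMap R F) * Matrix.diagonal d2) * B2.map (algebraMap R F)) *
              B2.adjugate.map (algebraMap R F)
            = (A1.adjugate.map (algebraMap R F) * A1.map (algebraMap R F)) * (Matrix.diagonal d1 *
              (m l).map (algebraMap R F) * Matrix.diagonal d2) * (B2.map (algebraMap R F) *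
              B2.adjugate.map (algebraMap R F)) := by simp only [Matrix.mul_assoc]
          _ = _ := by rw [h4, h5, Matrix.one_mul, Matrix.mul_one]
      have h4 := congrFun (congrFun h3 i) j
      rw [Matrix.mul_diagonal, Matrix.diagonal_mul] at h4
      exact h4
  have hpos : ∀ l i j, res (m l i j) ≠ 0 → 0 < y i + x j := by
    intro l i j hne
    obtain ⟨r, hr, hr'⟩ := hmem l i j
    have h3 : IsUnit (m l i j) := by
      by_contra hnu
      have h4 : m l i j ∈ RingHom.ker res := by
        rw [hker]
        exact (mem_maximalIdeal _).2 hnu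
      exact hne h4
    obtain ⟨u, hu⟩ := h3
    refine hxy i j ⟨r * (u⁻¹ : Rˣ), Ideal.mul_mem_right _ _ hr, ?_⟩
    rw [map_mul, hr', ← hu]
    have h4 : algebraMap R F u * algebraMap R F (u⁻¹ : Rˣ) = 1 := by
      rw [← map_mul, Units.mul_inv, map_one]
    linear_combination (d1 i * d2 j) * h4
  -- reduction
  let A2r : Matrix (Fin a) (Fin a) K := A2.map res
  let B1r : Matrix (Fin b) (Fin b) K := B1.map res
  have hA2r : A2r.det = 1 := by
    have := res.toRingHom.map_det A2
    rw [hA2, map_one] at this
    exact this.symm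
  have hB1r : B1r.det = 1 := by
    have := res.toRingHom.map_det B1
    rw [hB1, map_one] at this
    exact this.symm
  have hm : ∀ l, (m l).map res = B1r * α l * A2r := by
    intro l
    simp only [m]
    have h3 : (B1 * (α l).map (algebraMap K R) * A2).map res.toRingHom = B1.map res.toRingHom *
        ((α l).map (algebraMap K R)).map res.toRingHom * A2.map res.toRingHom := by
      rw [Matrix.map_mul, Matrix.map_mul]
    refine h3.trans ?_
    have h4 : ((α l).map (algebraMap K R)).map res.toRingHom = α l := by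
      ext i j
      exact res.commutes _
    rw [h4]
    rfl
  refine comb ha hb x y hx hy fun c => ?_
  let V' : Submodule K (Fin a → K) := Submodule.span K (Set.range fun j : {j // x j ≤ c} => A2r.col j)
  have hV' : Module.finrank K V' = (Finset.univ.filter fun j => x j ≤ c).card := by
    have h3 : LinearIndependent K A2r.col := by
      rw [Matrix.linearIndependent_cols_iff_isUnit, Matrix.isUnit_iff_isUnit_det, hA2r]
      exact isUnit_one
    have h4 : LinearIndependent K (fun j : {j // x j ≤ c} => A2r.col j) := h3.comp _ Subtype.val_injective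
    rw [finrank_span_eq_card h4, Fintype.card_subtype]
  have hW' : Module.finrank K (⨆ l, V'.map (α l).mulVecLin : Submodule K (Fin b → K)) ≤
      (Finset.univ.filter fun i => -c < y i).card := by
    have h3 : (⨆ l, V'.map (α l).mulVecLin : Submodule K (Fin b → K)) ≤
        Submodule.span K (Set.range fun i : {i // -c < y i} => B1r.adjugate.col i) := by
      refine iSup_le fun l => ?_
      rw [Submodule.map_span, Submodule.span_le]
      rintro _ ⟨_, ⟨j, rfl⟩, rfl⟩
      have h4 : (α l).mulVecLin (A2r.col j) = ∑ i, (m l).map res i j • B1r.adjugate.col i := by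
        have h5 : α l * A2r = B1r.adjugate * (m l).map res := by
          rw [hm, ← Matrix.mul_assoc, ← Matrix.mul_assoc, Matrix.adjugate_mul, hB1r, one_smul, Matrix.one_mul]
        ext i'
        have h6 : (α l).mulVecLin (A2r.col j) i' = (α l * A2r) i' j := rfl
        rw [h6, h5, Matrix.mul_apply, Finset.sum_apply]
        refine Finset.sum_congr rfl fun i _ => ?_
        rw [Pi.smul_apply, smul_eq_mul, mul_comm]
        rfl
      rw [h4]
      refine Submodule.sum_mem _ fun i _ => ?_
      by_cases h0 : (m l).map res i j = 0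
      · rw [h0, zero_smul]; exact zero_mem _
      · have h5 := hpos l i j h0
        have h6 := j.2
        exact Submodule.smul_mem _ _ (Submodule.subset_span ⟨⟨i, by omega⟩, rfl⟩)
    refine (Submodule.finrank_mono h3).trans ?_
    have h4 := finrank_range_le_card (R := K) (fun i : {i // -c < y i} => B1r.adjugate.col i)
    rw [Fintype.card_subtype] at h4
    exact h4
  have h3 := hα V'
  rw [hV'] at h3
  exact h3.trans (Nat.mul_le_mul_left _ hW')

end hm

section final

variable {K : Type u} [Field K] {a b h : ℕ}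

/-- **The invariant theory pack for Kronecker modules.** -/
theorem exists_pack (K : Type u) [Field K] [IsAlgClosed K] [CharZero K] (a b h : ℕ) (ha : 0 < a) (hb : 0 < b) :
    ∃ (m e : ℕ) (f : Fin (m + 1) → Poly K a b h) (ρ : Poly K a b h →ₗ[K] Poly K a b h), Pack a b h m e f ρ := by
  obtain ⟨ρ, hρ⟩ := exists_reynolds K a b h
  let I : Subalgebra K (Poly K a b h) :=
    { carrier := {p | IsInv p}
      mul_mem' := fun {p q} hp hq k g α hk hg => by
        rw [map_mul, map_mul, hp k g α hk hg, hq k g α hk hg]
      add_mem' := fun {p q} hp hq k g α hk hg => by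
        rw [map_add, map_add, hp k g α hk hg, hq k g α hk hg]
      algebraMap_mem' := fun c => isInv_C c }
  obtain ⟨m, e, f, he, hf, hfI, hgen⟩ := K496.KrGen.exists_veronese I ρ hρ.inv hρ.eq (fun p hp q => hρ.mul p q hp)
    hρ.hom
  refine ⟨m, e, f, ρ, he, hf, hfI, fun α => ⟨?_, ?_⟩, hgen, hρ.inv, hρ.eq, fun p q hp => hρ.mul p q hp,
    hρ.hom, hρ.stable⟩
  · rintro ⟨i, hi⟩
    by_contra hss
    exact hi (evr_eq_zero_of_not_isSS ha hb hss he (hf i) (hfI i))
  · intro hss
    by_contra! hcon
    obtain ⟨d, hd, p, hp, hpi, hne⟩ := exists_of_isSS hρ ha hb hss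
    have h1 : (p ^ e).IsHomogeneous (d * e) := hp.pow e
    obtain ⟨P, hP, hP'⟩ := hgen d (p ^ e) h1 (I.pow_mem hpi e)
    have h2 : evr (RingHom.id K) α (aeval f P) = 0 := by
      have h3 : ∀ Q : MvPolynomial (Fin (m + 1)) K, evr (RingHom.id K) α (aeval f Q) = constantCoeff Q := by
        intro Q
        have h4 : (evr (RingHom.id K) α).comp (aeval f : MvPolynomial (Fin (m + 1)) K →ₐ[K] Poly K a b h).toRingHom =
            constantCoeff := by
          apply MvPolynomial.ringHom_ext
          · intro c
            change evr (RingHom.id K) α (aeval f (C c)) = _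
            rw [aeval_C, algebraMap_eq, evr_C, constantCoeff_C]
            rfl
          · intro i
            change evr (RingHom.id K) α (aeval f (X i)) = _
            rw [aeval_X, hcon, constantCoeff_X]
        exact DFunLike.congr_fun h4 Q
      rw [h3, constantCoeff_eq, hP.coeff_eq_zero]
      simpa using hd.ne
    rw [hP', map_pow] at h2
    exact hne (eq_zero_of_pow_eq_zero h2)

end final

end

end K496.KrKing
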