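import Groth.Agent.AGF.K497.Rat
import Groth.Agent.InvQ.K702.Points
import Groth.Agent.InvQ.K702.HMCore
import Groth.Agent.InvQ.K701.Orbit
import Groth.Agent.HopfRep.K191.LInt
import Groth.Agent.S12559
import Groth.Agent.Coherent.K585.KronK

/-!
# Kronecker modules: the Reynolds operator

* `avg β F`: the average of a regular function `F : Pt K A → M` with respect to a functional `β`;
* `exists_reynolds`: the Reynolds operator of `SL_b × SL_a` on the coordinate ring of `Hom(ℂ^a ⊗ ℂ^h, ℂ^b)`.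
-/

set_option autoImplicit false
set_option linter.unusedSectionVars false

universe u v w

open TensorProduct MvPolynomial

namespace K496.KrRey

open Groth.Agent.Sga3B.RG K497.Rat

noncomputable section

section avg

variable {K : Type u} [Field K] {A : Type u} [CommRing A] [HopfAlgebra K A]
  [IsAlgClosed K] [Algebra.FiniteType K A] [IsReduced A]
variable {M : Type v} [AddCommGroup M] [Module K M] {N : Type w} [AddCommGroup N] [Module K N]

/-- The average of a regular function with respect to a functional. -/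
def avg (β : A →ₗ[K] K) (F : Pt K A → M) (hF : IsPol F) : M :=
  TensorProduct.lid K M (β.rTensor M hF.choose)

lemma avg_eq (β : A →ₗ[K] K) {F : Pt K A → M} (hF : IsPol F) {t : A ⊗[K] M} (ht : ∀ g, F g = ev M g t) :
    avg β F hF = TensorProduct.lid K M (β.rTensor M t) := by
  have : hF.choose = t := eq_of_ev (K := K) fun g => by rw [← ht, ← hF.choose_spec]
  rw [avg, this]

lemma avg_congr (β : A →ₗ[K] K) {F F' : Pt K A → M} (hF : IsPol F) (hF' : IsPol F') (h : ∀ g, F g = F' g) :
    avg β F hF = avg β F' hF' := by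
  obtain rfl : F = F' := funext h
  rfl

lemma map_avg (β : A →ₗ[K] K) {F : Pt K A → M} (hF : IsPol F) (f : M →ₗ[K] N) :
    f (avg β F hF) = avg β (fun g => f (F g)) (hF.map f) := by
  obtain ⟨t, ht⟩ := hF
  rw [avg_eq β ⟨t, ht⟩ ht, avg_eq β _ (t := LinearMap.lTensor A f t) fun g => by rw [ev_lTensor, ht]]
  clear ht
  induction t with
  | zero => simp
  | add x y hx hy => simp only [map_add, hx, hy]
  | tmul a m => simp

lemma avg_add (β : A →ₗ[K] K) {F F' : Pt K A → M} (hF : IsPol F) (hF' : IsPol F') :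
    avg β (fun g => F g + F' g) (hF.add hF') = avg β F hF + avg β F' hF' := by
  obtain ⟨t, ht⟩ := hF
  obtain ⟨t', ht'⟩ := hF'
  rw [avg_eq β ⟨t, ht⟩ ht, avg_eq β ⟨t', ht'⟩ ht',
    avg_eq β _ (t := t + t') fun g => by rw [map_add, ht, ht'], map_add, map_add]

lemma avg_const (β : A →ₗ[K] K) (m : M) : avg β (fun _ : Pt K A => m) (isPol_const m) = β 1 • m := by
  rw [avg_eq β _ (t := 1 ⊗ₜ m) fun g => by rw [ev_tmul, Pt.apply_one, one_smul], LinearMap.rTensor_tmul,
    TensorProduct.lid_tmul]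

lemma avg_mem (β : A →ₗ[K] K) {F : Pt K A → M} (hF : IsPol F) (W : Submodule K M) (hW : ∀ g, F g ∈ W) :
    avg β F hF ∈ W := by
  rw [← Submodule.ker_mkQ W, LinearMap.mem_ker, map_avg,
    avg_congr β _ (isPol_const 0) fun g => ?_, avg_const, smul_zero]
  exact (Submodule.Quotient.mk_eq_zero W).2 (hW g)

lemma ev_mul_left (g₀ g : Pt K A) (t : A ⊗[K] M) :
    ev M (g₀ * g) t = ev M g ((lTr g₀⁻¹ : A →ₐ[K] A).toLinearMap.rTensor M t) := by
  induction t with
  | zero => simp
  | add x y hx hy => simp only [map_add, hx, hy]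
  | tmul a m =>
    rw [LinearMap.rTensor_tmul, ev_tmul, ev_tmul, AlgHom.toLinearMap_apply, lTr_apply_pt, inv_inv]

lemma ev_mul_right (g₀ g : Pt K A) (t : A ⊗[K] M) :
    ev M (g * g₀) t = ev M g ((rTr g₀ : A →ₐ[K] A).toLinearMap.rTensor M t) := by
  induction t with
  | zero => simp
  | add x y hx hy => simp only [map_add, hx, hy]
  | tmul a m =>
    rw [LinearMap.rTensor_tmul, ev_tmul, ev_tmul, AlgHom.toLinearMap_apply, rTr_apply_pt]

lemma avg_left {β : A →ₗ[K] K} (hβ : ∀ (g : Pt K A) (a : A), β (lTr g a) = β a) {F : Pt K A → M} (hF : IsPol F)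
    (g₀ : Pt K A) (h : IsPol (fun g => F (g₀ * g))) : avg β (fun g => F (g₀ * g)) h = avg β F hF := by
  obtain ⟨t, ht⟩ := hF
  rw [avg_eq β ⟨t, ht⟩ ht, avg_eq β _ fun g => by rw [ht, ev_mul_left]]
  clear h ht
  induction t with
  | zero => simp
  | add x y hx hy => simp only [map_add, hx, hy]
  | tmul a m =>
    rw [LinearMap.rTensor_tmul, LinearMap.rTensor_tmul, LinearMap.rTensor_tmul, AlgHom.toLinearMap_apply, hβ]

lemma avg_right {β : A →ₗ[K] K} (hβ : ∀ (g : Pt K A) (a : A), β (rTr g a) = β a) {F : Pt K A → M} (hF : IsPol F)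
    (g₀ : Pt K A) (h : IsPol (fun g => F (g * g₀))) : avg β (fun g => F (g * g₀)) h = avg β F hF := by
  obtain ⟨t, ht⟩ := hF
  rw [avg_eq β ⟨t, ht⟩ ht, avg_eq β _ fun g => by rw [ht, ev_mul_right]]
  clear h ht
  induction t with
  | zero => simp
  | add x y hx hy => simp only [map_add, hx, hy]
  | tmul a m =>
    rw [LinearMap.rTensor_tmul, LinearMap.rTensor_tmul, LinearMap.rTensor_tmul, AlgHom.toLinearMap_apply, hβ]

lemma lTr_inv_of_isLInt {β : A →ₗ[K] K} (hβ : K191.LInt.IsLInt β) (g : Pt K A) (a : A) : β (lTr g a) = β a := by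
  have h1 := congrArg (fun z => TensorProduct.lid K K ((g⁻¹).ofConv.toLinearMap.rTensor K z)) (hβ a)
  simp only [LinearMap.rTensor_tmul, TensorProduct.lid_tmul, AlgHom.toLinearMap_apply, map_one, smul_eq_mul,
    one_mul] at h1
  rw [← h1]
  change β ((Algebra.TensorProduct.lid K A) (Algebra.TensorProduct.map
    (g⁻¹).ofConv (AlgHom.id K A) (Coalgebra.comul (R := K) a))) = _
  generalize CoalgebraStruct.comul (R := K) a = z
  induction z with
  | zero => simp
  | add x y hx hy => simp only [map_add, hx, hy]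
  | tmul b c => simp

lemma rTr_inv_of_isInt {β : A →ₗ[K] K} (hβ : K191.Integral.IsInt β) (g : Pt K A) (a : A) : β (rTr g a) = β a := by
  have h1 := congrArg (fun z => TensorProduct.lid K K (g.ofConv.toLinearMap.lTensor K z)) (hβ a)
  simp only [LinearMap.lTensor_tmul, TensorProduct.lid_tmul, AlgHom.toLinearMap_apply, map_one, smul_eq_mul,
    mul_one] at h1
  rw [← h1]
  change β ((Algebra.TensorProduct.rid K K A) (Algebra.TensorProduct.map (AlgHom.id K A)
    g.ofConv (Coalgebra.comul (R := K) a))) = _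
  generalize CoalgebraStruct.comul (R := K) a = z
  induction z with
  | zero => simp
  | add x y hx hy => simp only [map_add, hx, hy]
  | tmul b c => simp [mul_comm]

end avg

section sub

open K585.KronK

variable {K : Type u} [Field K] {a b h : ℕ}

lemma evr_X {B : Type*} [CommRing B] (c : K →+* B) (α : Kr a b h B) (p : Idx a b h) :
    evr c α (X p) = α p.1 p.2.1 p.2.2 := by
  simp [evr]

lemma evr_C {B : Type*} [CommRing B] (c : K →+* B) (α : Kr a b h B) (z : K) : evr c α (C z) = c z := by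
  simp [evr]

lemma evr_comp {B : Type*} [CommRing B] {B' : Type*} [CommRing B'] (c : K →+* B) (φ : B →+* B') (α : Kr a b h B)
    (p : Poly K a b h) : φ (evr c α p) = evr (φ.comp c) (fun l => (α l).map φ) p := by
  change (φ.comp (evr c α)) p = _
  congr 1
  apply MvPolynomial.ringHom_ext
  · intro z
    simp [evr]
  · intro i
    simp [evr]

/-- constant matrices -/
def cm {n : ℕ} (k : Matrix (Fin n) (Fin n) K) : Matrix (Fin n) (Fin n) (Poly K a b h) := k.map C

lemma sub_X (k : Matrix (Fin b) (Fin b) K) (g : Matrix (Fin a) (Fin a) K) (p : Idx a b h) :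
    sub k g (X p) = act (cm k) (cm g) (gen K a b h) p.1 p.2.1 p.2.2 := by
  rw [sub, aeval_X]
  rfl

lemma cm_map {B : Type*} [CommRing B] (c : K →+* B) (α : Kr a b h B) {n : ℕ} (k : Matrix (Fin n) (Fin n) K) :
    (cm (a := a) (b := b) (h := h) k).map (evr c α) = k.map c := by
  ext i j
  simp [cm, evr_C]

lemma cm_sub (k : Matrix (Fin b) (Fin b) K) (g : Matrix (Fin a) (Fin a) K) {n : ℕ}
    (m : Matrix (Fin n) (Fin n) K) : (cm (a := a) (b := b) (h := h) m).map (sub k g) = cm m := by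
  ext1 i j
  exact (sub k g).commutes (m i j)

lemma cm_mul {n : ℕ} (k k' : Matrix (Fin n) (Fin n) K) :
    cm (a := a) (b := b) (h := h) (k * k') = cm k * cm k' := by
  rw [cm, Matrix.map_mul]
  rfl

lemma cm_one {n : ℕ} : cm (a := a) (b := b) (h := h) (1 : Matrix (Fin n) (Fin n) K) = 1 :=
  Matrix.map_one C (map_zero _) (map_one _)

lemma map_act {B B' : Type*} [CommRing B] [CommRing B'] (φ : B →+* B') (k : Matrix (Fin b) (Fin b) B)
    (g : Matrix (Fin a) (Fin a) B) (α : Kr a b h B) (l : Fin h) :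
    (act k g α l).map φ = act (k.map φ) (g.map φ) (fun l => (α l).map φ) l := by
  rw [act, Matrix.map_mul, Matrix.map_mul]
  rfl

lemma act_act {B : Type*} [CommRing B] (k k' : Matrix (Fin b) (Fin b) B) (g g' : Matrix (Fin a) (Fin a) B)
    (α : Kr a b h B) : act k g (act k' g' α) = act (k * k') (g' * g) α := by
  funext l
  simp only [act, Matrix.mul_assoc]

lemma evr_gen {B : Type*} [CommRing B] (c : K →+* B) (α : Kr a b h B) (l : Fin h) :
    (gen K a b h l).map (evr c α) = α l := by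
  ext i j
  simp [gen, evr_X]

lemma evr_sub {B : Type*} [CommRing B] (c : K →+* B) (α : Kr a b h B) (k : Matrix (Fin b) (Fin b) K)
    (g : Matrix (Fin a) (Fin a) K) (p : Poly K a b h) :
    evr c α (sub k g p) = evr c (act (k.map c) (g.map c) α) p := by
  have key : (evr c α).comp (sub k g : Poly K a b h →ₐ[K] Poly K a b h).toRingHom =
      evr c (act (k.map c) (g.map c) α) := by
    apply MvPolynomial.ringHom_ext
    · intro z
      have h1 : (sub k g : Poly K a b h →ₐ[K] Poly K a b h) (C z) = C z := (sub k g).commutes z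
      simp [h1, evr_C]
    · intro p
      change evr c α (sub k g (X p)) = _
      rw [sub_X, evr_X, ← Matrix.map_apply (f := evr c α), map_act, cm_map, cm_map]
      simp only [evr_gen]
  exact DFunLike.congr_fun key p

lemma sub_sub (k k' : Matrix (Fin b) (Fin b) K) (g g' : Matrix (Fin a) (Fin a) K) (p : Poly K a b h) :
    sub k g (sub k' g' p) = sub (k' * k) (g * g') p := by
  have key : (sub k g).comp (sub k' g') = (sub (k' * k) (g * g') : Poly K a b h →ₐ[K] Poly K a b h) := by
    apply MvPolynomial.algHom_ext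
    intro p
    change sub k g (sub k' g' (X p)) = _
    have h2 : ∀ l, (gen K a b h l).map (sub k g) = act (cm k) (cm g) (gen K a b h) l := by
      intro l
      ext1 i j
      exact sub_X k g (l, i, j)
    rw [sub_X, sub_X, ← Matrix.map_apply (f := sub (h := h) k g)]
    have h3 := map_act (sub k g : Poly K a b h →ₐ[K] Poly K a b h).toRingHom (cm k') (cm g') (gen K a b h) p.1
    have h4 : act (cm k') (cm g') (fun l => (gen K a b h l).map (sub k g)) p.1 =
        act (cm (k' * k)) (cm (g * g')) (gen K a b h) p.1 := by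
      simp only [h2]
      rw [cm_mul, cm_mul, ← act_act]
    rw [← h4]
    have h5 : (act (cm k') (cm g') (gen K a b h) p.1).map (sub k g) =
        act ((cm k').map (sub k g)) ((cm g').map (sub k g)) (fun l => (gen K a b h l).map (sub k g)) p.1 := h3
    rw [h5, cm_sub, cm_sub]
  exact DFunLike.congr_fun key p

lemma sub_one_one (p : Poly K a b h) : sub 1 1 p = p := by
  have : (sub 1 1 : Poly K a b h →ₐ[K] Poly K a b h) = AlgHom.id K _ := by
    apply MvPolynomial.algHom_ext
    intro p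
    rw [sub_X, cm_one, cm_one, act, Matrix.one_mul, Matrix.mul_one]
    rfl
  rw [this]
  rfl

lemma eq_of_evr [Infinite K] {p q : Poly K a b h} (hpq : ∀ α : Kr a b h K, evr (RingHom.id K) α p = evr (RingHom.id K) α q) :
    p = q := by
  apply MvPolynomial.funext
  intro x
  have h1 := hpq fun l i j => x (l, i, j)
  exact h1

lemma isInv_iff [Infinite K] {p : Poly K a b h} : IsInv p ↔ ∀ (k : Matrix (Fin b) (Fin b) K) (g : Matrix (Fin a) (Fin a) K),
    k.det = 1 → g.det = 1 → sub k g p = p := by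
  constructor
  · intro hp k g hk hg
    apply eq_of_evr
    intro α
    rw [evr_sub]
    exact hp k g α hk hg
  · intro hp k g α hk hg
    have h1 := congrArg (evr (RingHom.id K) α) (hp k g hk hg)
    rw [evr_sub] at h1
    exact h1

lemma sub_isHomogeneous (k : Matrix (Fin b) (Fin b) K) (g : Matrix (Fin a) (Fin a) K) {d : ℕ} {p : Poly K a b h}
    (hp : p.IsHomogeneous d) : (sub k g p).IsHomogeneous d := by
  have h0 : ∀ q : Idx a b h, (act (cm k) (cm g) (gen K a b h) q.1 q.2.1 q.2.2).IsHomogeneous 1 := by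
    intro q
    change (∑ j, (∑ i, C (k q.2.1 i) * X (q.1, i, j)) * C (g j q.2.2) : Poly K a b h).IsHomogeneous 1
    refine IsHomogeneous.sum _ _ _ fun j _ => ?_
    refine IsHomogeneous.mul (m := 1) (n := 0) (IsHomogeneous.sum _ _ _ fun i _ => ?_) (isHomogeneous_C _ _)
    exact IsHomogeneous.mul (m := 0) (n := 1) (isHomogeneous_C _ _) (isHomogeneous_X _ _)
  have h1 := hp.aeval _ h0
  rwa [one_mul] at h1

end sub

section rey

open K585.KronK

variable {K : Type u} [Field K] [IsAlgClosed K] [CharZero K] {a b h n : ℕ}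

instance finiteType_SLn : Algebra.FiniteType K (CoordGrp.SLn n K) := K702.HMCore.finiteType_SLn K n

instance isReduced_SLn : IsReduced (CoordGrp.SLn n K) := K701.Orbit.isReduced_hopf K _

/-- The matrix of a point. -/
def mt (g : Pt K (CoordGrp.SLn n K)) : Matrix (Fin n) (Fin n) K := K702.SL.mat g.ofConv

lemma det_mt (g : Pt K (CoordGrp.SLn n K)) : (mt g).det = 1 := K702.SL.det_mat _

lemma exists_mt {M : Matrix (Fin n) (Fin n) K} (hM : M.det = 1) : ∃ g : Pt K (CoordGrp.SLn n K), mt g = M :=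
  ⟨WithConv.toConv (CoordGrp.SLn.pt n K M hM), K702.SL.mat_pt M hM⟩

lemma mt_apply (g : Pt K (CoordGrp.SLn n K)) (i j : Fin n) : mt g i j = g (CoordGrp.SLn.X i j) := rfl

lemma mt_mul (g g' : Pt K (CoordGrp.SLn n K)) : mt (g * g') = mt g * mt g' := by
  ext i j
  rw [mt_apply, Pt.mul_apply, K702.SL.comul_X, Matrix.mul_apply]
  simp [mt_apply]

lemma isPol_a (p : Poly K a b h) :
    IsPol (fun g : Pt K (CoordGrp.SLn a K) => sub (1 : Matrix (Fin b) (Fin b) K) (mt g) p) := by
  induction p using MvPolynomial.induction_on with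
  | C z => exact (isPol_const (C z)).congr fun g => (sub 1 (mt g)).commutes z
  | add p q hp hq => exact (hp.add hq).congr fun g => map_add _ _ _
  | mul_X p i hp =>
    refine (hp.mul ?_).congr fun g => map_mul _ _ _
    refine (IsPol.sum Finset.univ (F := fun j (g : Pt K (CoordGrp.SLn a K)) =>
      g (CoordGrp.SLn.X j i.2.2) • (X (i.1, i.2.1, j) : Poly K a b h)) fun j _ => isPol_apply_smul _ _).congr fun g => ?_
    rw [sub_X, cm_one, act, Matrix.one_mul, Matrix.mul_apply]
    refine Finset.sum_congr rfl fun j _ => ?_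
    rw [MvPolynomial.smul_eq_C_mul, mul_comm]
    rfl

lemma isPol_b (p : Poly K a b h) :
    IsPol (fun k : Pt K (CoordGrp.SLn b K) => sub (mt k) (1 : Matrix (Fin a) (Fin a) K) p) := by
  induction p using MvPolynomial.induction_on with
  | C z => exact (isPol_const (C z)).congr fun k => (sub (mt k) 1).commutes z
  | add p q hp hq => exact (hp.add hq).congr fun g => map_add _ _ _
  | mul_X p i hp =>
    refine (hp.mul ?_).congr fun g => map_mul _ _ _
    refine (IsPol.sum Finset.univ (F := fun j (g : Pt K (CoordGrp.SLn b K)) =>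
      g (CoordGrp.SLn.X i.2.1 j) • (X (i.1, j, i.2.2) : Poly K a b h)) fun j _ => isPol_apply_smul _ _).congr fun g => ?_
    rw [sub_X, cm_one, act, Matrix.mul_one, Matrix.mul_apply]
    refine Finset.sum_congr rfl fun j _ => ?_
    rw [MvPolynomial.smul_eq_C_mul]
    rfl

/-- averaging over `SL_a` -/
def ra (β : CoordGrp.SLn a K →ₗ[K] K) : Poly K a b h →ₗ[K] Poly K a b h where
  toFun p := avg β _ (isPol_a p)
  map_add' p q := by
    rw [← avg_add]
    exact avg_congr β _ _ fun g => map_add _ _ _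
  map_smul' c p := by
    have h1 := map_avg β (isPol_a p) (LinearMap.lsmul K (Poly K a b h) c)
    rw [LinearMap.lsmul_apply] at h1
    rw [RingHom.id_apply, h1]
    exact avg_congr β _ _ fun g => map_smul _ _ _

/-- averaging over `SL_b` -/
def rb (β : CoordGrp.SLn b K →ₗ[K] K) : Poly K a b h →ₗ[K] Poly K a b h where
  toFun p := avg β _ (isPol_b p)
  map_add' p q := by
    rw [← avg_add]
    exact avg_congr β _ _ fun g => map_add _ _ _
  map_smul' c p := by
    have h1 := map_avg β (isPol_b p) (LinearMap.lsmul K (Poly K a b h) c)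
    rw [LinearMap.lsmul_apply] at h1
    rw [RingHom.id_apply, h1]
    exact avg_congr β _ _ fun g => map_smul _ _ _

lemma ra_apply (β : CoordGrp.SLn a K →ₗ[K] K) (p : Poly K a b h) : ra β p = avg β _ (isPol_a p) := rfl

lemma rb_apply (β : CoordGrp.SLn b K →ₗ[K] K) (p : Poly K a b h) : rb β p = avg β _ (isPol_b p) := rfl

variable {β : CoordGrp.SLn a K →ₗ[K] K} {γ : CoordGrp.SLn b K →ₗ[K] K}

lemma sub_ra (hβ : ∀ (g : Pt K (CoordGrp.SLn a K)) (x : CoordGrp.SLn a K), β (lTr g x) = β x)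
    (g₀ : Pt K (CoordGrp.SLn a K)) (p : Poly K a b h) : sub 1 (mt g₀) (ra β p) = ra β p := by
  have h1 := map_avg β (isPol_a p) (sub (1 : Matrix (Fin b) (Fin b) K) (mt g₀)).toLinearMap
  rw [AlgHom.toLinearMap_apply] at h1
  rw [ra_apply, h1]
  have h2 : ∀ g : Pt K (CoordGrp.SLn a K), (sub (1 : Matrix (Fin b) (Fin b) K) (mt g₀)).toLinearMap
      (sub 1 (mt g) p) = sub 1 (mt (g₀ * g)) p := by
    intro g
    rw [AlgHom.toLinearMap_apply, sub_sub, Matrix.one_mul, mt_mul]
  have h3 : IsPol (fun g : Pt K (CoordGrp.SLn a K) => sub (1 : Matrix (Fin b) (Fin b) K) (mt (g₀ * g)) p) := by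
    refine ((isPol_a p).map (sub (1 : Matrix (Fin b) (Fin b) K) (mt g₀)).toLinearMap).congr fun g => ?_
    rw [h2]
  rw [avg_congr β _ h3 h2]
  exact avg_left hβ (isPol_a p) g₀ h3

lemma sub_rb (hγ : ∀ (g : Pt K (CoordGrp.SLn b K)) (x : CoordGrp.SLn b K), γ (rTr g x) = γ x)
    (k₀ : Pt K (CoordGrp.SLn b K)) (p : Poly K a b h) : sub (mt k₀) 1 (rb γ p) = rb γ p := by
  have h1 := map_avg γ (isPol_b p) (sub (mt k₀) (1 : Matrix (Fin a) (Fin a) K)).toLinearMap
  rw [AlgHom.toLinearMap_apply] at h1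
  rw [rb_apply, h1]
  have h2 : ∀ g : Pt K (CoordGrp.SLn b K), (sub (mt k₀) (1 : Matrix (Fin a) (Fin a) K)).toLinearMap
      (sub (mt g) 1 p) = sub (mt (g * k₀)) 1 p := by
    intro g
    rw [AlgHom.toLinearMap_apply, sub_sub, Matrix.one_mul, mt_mul]
  have h3 : IsPol (fun g : Pt K (CoordGrp.SLn b K) => sub (mt (g * k₀)) (1 : Matrix (Fin a) (Fin a) K) p) := by
    refine ((isPol_b p).map (sub (mt k₀) (1 : Matrix (Fin a) (Fin a) K)).toLinearMap).congr fun g => ?_
    rw [h2]
  rw [avg_congr γ _ h3 h2]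
  exact avg_right hγ (isPol_b p) k₀ h3

lemma sub_comm_rb (g : Matrix (Fin a) (Fin a) K) (p : Poly K a b h) :
    sub 1 g (rb γ p) = rb γ (sub 1 g p) := by
  have h1 := map_avg γ (isPol_b p) (sub (1 : Matrix (Fin b) (Fin b) K) g).toLinearMap
  rw [AlgHom.toLinearMap_apply] at h1
  rw [rb_apply, h1, rb_apply]
  refine avg_congr γ _ _ fun k => ?_
  rw [AlgHom.toLinearMap_apply, sub_sub, sub_sub, Matrix.one_mul, Matrix.mul_one, Matrix.mul_one, Matrix.one_mul]

lemma sub_eq_comp (k : Matrix (Fin b) (Fin b) K) (g : Matrix (Fin a) (Fin a) K) (p : Poly K a b h) :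
    sub k g p = sub k 1 (sub 1 g p) := by
  rw [sub_sub, Matrix.one_mul, Matrix.one_mul]

/-- The Reynolds operator. -/
def rey (β : CoordGrp.SLn a K →ₗ[K] K) (γ : CoordGrp.SLn b K →ₗ[K] K) : Poly K a b h →ₗ[K] Poly K a b h :=
  rb γ ∘ₗ ra β

lemma rey_apply (p : Poly K a b h) : rey β γ p = rb γ (ra β p) := rfl

lemma rey_inv (hβ : ∀ (g : Pt K (CoordGrp.SLn a K)) (x : CoordGrp.SLn a K), β (lTr g x) = β x)
    (hγ : ∀ (g : Pt K (CoordGrp.SLn b K)) (x : CoordGrp.SLn b K), γ (rTr g x) = γ x) (p : Poly K a b h) :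
    IsInv (rey β γ p) := by
  rw [isInv_iff]
  intro k g hk hg
  obtain ⟨k, rfl⟩ := exists_mt hk
  obtain ⟨g, rfl⟩ := exists_mt hg
  rw [sub_eq_comp, rey_apply, sub_comm_rb, sub_ra hβ, sub_rb hγ]

lemma rey_eq (hβ : β 1 = 1) (hγ : γ 1 = 1) {p : Poly K a b h} (hp : IsInv p) : rey β γ p = p := by
  rw [isInv_iff] at hp
  have h1 : ra β p = p := by
    rw [ra_apply, avg_congr β _ (isPol_const p) fun g => hp _ _ (by simp) (det_mt g), avg_const, hβ, one_smul]
  have h2 : rb γ p = p := by
    rw [rb_apply, avg_congr γ _ (isPol_const p) fun g => hp _ _ (det_mt g) (by simp), avg_const, hγ, one_smul]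
  rw [rey_apply, h1, h2]

lemma rey_mul {p : Poly K a b h} (hp : IsInv p) (q : Poly K a b h) : rey β γ (p * q) = p * rey β γ q := by
  rw [isInv_iff] at hp
  have h1 : ∀ q, ra β (p * q) = p * ra β q := by
    intro q
    have h2 := map_avg β (isPol_a q) (LinearMap.mulLeft K p)
    rw [LinearMap.mulLeft_apply] at h2
    rw [ra_apply, ra_apply, h2]
    refine avg_congr β _ _ fun g => ?_
    rw [map_mul, hp _ _ (by simp) (det_mt g)]
    rfl
  have h1' : ∀ q, rb γ (p * q) = p * rb γ q := by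
    intro q
    have h2 := map_avg γ (isPol_b q) (LinearMap.mulLeft K p)
    rw [LinearMap.mulLeft_apply] at h2
    rw [rb_apply, rb_apply, h2]
    refine avg_congr γ _ _ fun g => ?_
    rw [map_mul, hp _ _ (det_mt g) (by simp)]
    rfl
  rw [rey_apply, h1, h1', rey_apply]

lemma rey_hom {d : ℕ} {p : Poly K a b h} (hp : p.IsHomogeneous d) : (rey β γ p).IsHomogeneous d := by
  have h1 : ∀ q : Poly K a b h, q.IsHomogeneous d → (ra β q).IsHomogeneous d := fun q hq =>
    avg_mem β (isPol_a q) (homogeneousSubmodule _ _ d) fun g => sub_isHomogeneous _ _ hq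
  have h2 : ∀ q : Poly K a b h, q.IsHomogeneous d → (rb γ q).IsHomogeneous d := fun q hq =>
    avg_mem γ (isPol_b q) (homogeneousSubmodule _ _ d) fun g => sub_isHomogeneous _ _ hq
  exact h2 _ (h1 _ hp)

lemma isPol_lTensor {A : Type u} [CommRing A] [HopfAlgebra K A] [Algebra.FiniteType K A] [IsReduced A]
    (β : A →ₗ[K] K) {Λ : Type u} [AddCommGroup Λ] [Module K Λ] {M : Type u} [AddCommGroup M] [Module K M]
    (F : Pt K A → (M →ₗ[K] M)) (hF : ∀ m, IsPol (fun g => F g m)) (r : M →ₗ[K] M)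
    (hr : ∀ m, r m = avg β _ (hF m)) (x : Λ ⊗[K] M) :
    ∃ hx : IsPol (fun g => (F g).lTensor Λ x), r.lTensor Λ x = avg β _ hx := by
  induction x with
  | zero =>
    refine ⟨(isPol_const 0).congr fun g => by rw [map_zero], ?_⟩
    rw [map_zero, avg_congr β _ (isPol_const 0) fun g => map_zero _, avg_const, smul_zero]
  | add x y hx hy =>
    obtain ⟨hx, hx'⟩ := hx
    obtain ⟨hy, hy'⟩ := hy
    refine ⟨(hx.add hy).congr fun g => by rw [map_add], ?_⟩
    rw [map_add, hx', hy', ← avg_add]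
    exact avg_congr β _ _ fun g => (map_add _ _ _).symm
  | tmul l m =>
    refine ⟨((hF m).map (TensorProduct.mk K Λ M l)).congr fun g => rfl, ?_⟩
    rw [LinearMap.lTensor_tmul, hr, ← TensorProduct.mk_apply, map_avg]
    rfl

lemma rey_stable (Λ : Type u) [CommRing Λ] [Algebra K Λ] (J : Submodule K (Λ ⊗[K] Poly K a b h))
    (hJ : ∀ (k : Matrix (Fin b) (Fin b) K) (g : Matrix (Fin a) (Fin a) K), k.det = 1 → g.det = 1 →
      J ≤ J.comap ((sub k g).toLinearMap.lTensor Λ)) : J ≤ J.comap ((rey β γ).lTensor Λ) := by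
  intro x hx
  have h1 : ∀ x ∈ J, (ra β : Poly K a b h →ₗ[K] Poly K a b h).lTensor Λ x ∈ J := by
    intro x hx
    obtain ⟨h2, h3⟩ := isPol_lTensor (Λ := Λ) β (fun g => (sub (1 : Matrix (Fin b) (Fin b) K) (mt g)).toLinearMap)
      (fun m => isPol_a m) (ra β) (fun m => rfl) x
    rw [h3]
    exact avg_mem β h2 J fun g => hJ _ _ (by simp) (det_mt g) hx
  have h2 : ∀ x ∈ J, (rb γ : Poly K a b h →ₗ[K] Poly K a b h).lTensor Λ x ∈ J := by
    intro x hx
    obtain ⟨h2, h3⟩ := isPol_lTensor (Λ := Λ) γ (fun g => (sub (mt g) (1 : Matrix (Fin a) (Fin a) K)).toLinearMap)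
      (fun m => isPol_b m) (rb γ) (fun m => rfl) x
    rw [h3]
    exact avg_mem γ h2 J fun g => hJ _ _ (det_mt g) (by simp) hx
  rw [Submodule.mem_comap, rey, LinearMap.lTensor_comp, LinearMap.comp_apply]
  exact h2 _ (h1 _ hx)

/-- Properties of a Reynolds operator. -/
structure IsRey (ρ : Poly K a b h →ₗ[K] Poly K a b h) : Prop where
  inv : ∀ p, IsInv (ρ p)
  eq : ∀ p, IsInv p → ρ p = p
  mul : ∀ p q, IsInv p → ρ (p * q) = p * ρ q
  hom : ∀ d p, p.IsHomogeneous d → (ρ p).IsHomogeneous d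
  stable : ∀ (Λ : Type u) [CommRing Λ] [Algebra K Λ] (J : Submodule K (TensorProduct K Λ (Poly K a b h))),
    (∀ (k : Matrix (Fin b) (Fin b) K) (g : Matrix (Fin a) (Fin a) K), k.det = 1 → g.det = 1 →
      J ≤ J.comap ((sub k g).toLinearMap.lTensor Λ)) → J ≤ J.comap (ρ.lTensor Λ)

/-- **The Reynolds operator.** -/
theorem exists_reynolds (K : Type u) [Field K] [IsAlgClosed K] [CharZero K] (a b h : ℕ) :
    ∃ ρ : Poly K a b h →ₗ[K] Poly K a b h, IsRey ρ := by
  obtain ⟨β, hβ, hβ1⟩ := K191.LInt.exists_isLInt (Groth.Agent.S12559.result K a)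
  obtain ⟨γ, hγ, hγ1⟩ := K191.Reductive.exists_isInt (Groth.Agent.S12559.result K b)
  exact ⟨rey β γ, rey_inv (lTr_inv_of_isLInt hβ) (rTr_inv_of_isInt hγ), fun p hp => rey_eq hβ1 hγ1 hp,
    fun p q hp => rey_mul hp q, fun d p hp => rey_hom hp, rey_stable⟩

end rey

end

end K496.KrRey
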